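import Mathlib

/-!
# Linear maps of a finite field over a subfield as sums of Frobenius twists

Expansion and uniqueness, the trace of a twist, and the consequences used for orthogonal groups of
dimension three over an extension of odd prime degree.
-/

set_option autoImplicit false

namespace Cfsg.Lib.Linear.OrthExtThree

open Module Polynomial

variable {F K : Type*} [Field K] [Fintype K]

/-- A sum of distinct powers below the order of the field vanishes only trivially. -/
theorem coeff_eq_zero {S : Type*} (s : Finset S) (c : S → K) (n : S → ℕ)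
    (hn : ∀ i ∈ s, n i < Fintype.card K) (h : ∀ x : K, ∑ i ∈ s, c i * x ^ n i = 0) (m : ℕ) :
    ∑ i ∈ s with n i = m, c i = 0 := by
  classical
  set P : K[X] := ∑ i ∈ s, C (c i) * X ^ n i with hP
  have hdeg : P.natDegree < Fintype.card K := by
    refine lt_of_le_of_lt (natDegree_sum_le_of_forall_le s _ (n := Fintype.card K - 1) fun i hi => ?_)
      (Nat.sub_lt Fintype.card_pos one_pos)
    exact le_trans (natDegree_C_mul_X_pow_le _ _) (Nat.le_sub_one_of_lt (hn i hi))
  have h0 : P = 0 := eq_zero_of_natDegree_lt_card_of_eval_eq_zero P (f := id) Function.injective_id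
    (fun x => by simpa [hP, eval_finsetSum] using h x) hdeg
  have := congrArg (fun R => R.coeff m) h0
  simpa [hP, finsetSum_coeff, coeff_C_mul_X_pow, Finset.sum_filter, eq_comm] using this

variable [Field F] [Fintype F] [Algebra F K]

local notation "q" => Fintype.card F
local notation "r" => finrank F K

theorem card_eq : Fintype.card K = q ^ r := Module.card_eq_pow_finrank

/-- The `i`-th twist. -/
noncomputable def tw (i : ℕ) : K →ₐ[F] K :=
  ((FiniteField.frobeniusAlgEquivOfAlgebraic F K) ^ i).toAlgHom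

theorem tw_apply (i : ℕ) (x : K) : (tw (F := F) i) x = x ^ q ^ i := by
  have h := congrFun (FiniteField.coe_frobeniusAlgEquivOfAlgebraic_iterate F K i) x
  simpa [tw, AlgEquiv.coe_pow] using h

theorem pow_q_rank (x : K) : x ^ q ^ r = x := by
  rw [← card_eq]; exact FiniteField.pow_card x

theorem pow_q_mul (x : K) (m n : ℕ) : x ^ q ^ (n + r * m) = x ^ q ^ n := by
  rw [pow_add, pow_mul x, pow_mul, ← card_eq, FiniteField.pow_card_pow]

theorem pow_q_mod (x : K) (n : ℕ) : x ^ q ^ n = x ^ q ^ (n % r) := by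
  conv_lhs => rw [← Nat.mod_add_div n r]
  exact pow_q_mul x _ _

/-- The map `y ↦ d · y^(q^n)`. -/
noncomputable def op (d : K) (n : ℕ) : K →ₗ[F] K :=
  LinearMap.mulLeft F d ∘ₗ (tw n).toLinearMap

theorem op_apply (d : K) (n : ℕ) (y : K) : op (F := F) d n y = d * y ^ q ^ n := by
  simp [op, tw_apply]

theorem op_mod (d : K) (n : ℕ) : op (F := F) d n = op d (n % r) :=
  LinearMap.ext fun y => by rw [op_apply, op_apply, pow_q_mod]

theorem q_two_le : 2 ≤ q := Fintype.one_lt_card

theorem pow_q_lt {n : ℕ} (hn : n < r) : q ^ n < Fintype.card K := by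
  rw [card_eq (F := F) (K := K)]
  exact Nat.pow_lt_pow_right (q_two_le (F := F)) hn

/-- The twists are independent. -/
theorem coeff_unique {c : Fin r → K} (h : ∀ x : K, ∑ i, c i * x ^ q ^ (i : ℕ) = 0) : c = 0 := by
  classical
  funext i
  have h1 := coeff_eq_zero Finset.univ c (fun i : Fin r => q ^ (i : ℕ))
    (fun i _ => pow_q_lt i.2) h (q ^ (i : ℕ))
  have e : (Finset.univ.filter fun j : Fin r => q ^ (j : ℕ) = q ^ (i : ℕ)) = {i} := by
    ext j
    simp [Nat.pow_right_inj q_two_le, Fin.ext_iff]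
  rw [e, Finset.sum_singleton] at h1
  exact h1

/-- Every linear map is a sum of twists. -/
theorem exists_coeff (φ : K →ₗ[F] K) :
    ∃ c : Fin r → K, ∀ x, φ x = ∑ i, c i * x ^ q ^ (i : ℕ) := by
  classical
  let Λ : (Fin r → K) →ₗ[F] (K →ₗ[F] K) :=
    { toFun := fun c => ∑ i, op (c i) (i : ℕ)
      map_add' := fun c c' => LinearMap.ext fun y => by
        simp [op_apply, add_mul, Finset.sum_add_distrib]
      map_smul' := fun a c => LinearMap.ext fun y => by
        simp [op_apply, Finset.smul_sum] }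
  have hinj : Function.Injective Λ := by
    rw [injective_iff_map_eq_zero]
    intro c hc
    refine coeff_unique fun x => ?_
    simpa [Λ, op_apply] using LinearMap.congr_fun hc x
  have hd : finrank F (Fin r → K) = finrank F (K →ₗ[F] K) := by
    rw [Module.finrank_linearMap, Module.finrank_pi_fintype]
    simp
  obtain ⟨c, hc⟩ := (LinearMap.injective_iff_surjective_of_finrank_eq_finrank hd).1 hinj φ
  exact ⟨c, fun x => by rw [← hc]; simp [Λ, op_apply]⟩

variable (hr : (finrank F K).Prime)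
include hr

/-- An element whose conjugates are distinct. -/
theorem exists_moved : ∃ s : K, ∀ i j : ℕ, i < r → j < r → s ^ q ^ i = s ^ q ^ j → i = j := by
  obtain ⟨s, hs⟩ : ∃ s : K, s ^ q ≠ s := by
    by_contra hc
    push Not at hc
    have h1 := coeff_eq_zero (K := K) (Finset.univ : Finset Bool) (fun b => if b then 1 else -1)
      (fun b => if b then q else 1)
      (fun b _ => by
        cases b
        · simpa using Fintype.one_lt_card (α := K)
        · simpa using pow_q_lt (F := F) (K := K) (n := 1) hr.one_lt)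
      (fun x => by simp [hc x]) q
    have hq : 1 ≠ q := by have := q_two_le (F := F); omega
    rw [Finset.sum_filter] at h1
    simp [hq] at h1
  refine ⟨s, fun i j hi hj he => ?_⟩
  by_contra hne
  obtain ⟨d, hd0, hdr, hd⟩ : ∃ d, 0 < d ∧ d < r ∧ s ^ q ^ d = s := by
    rcases Nat.lt_or_gt_of_ne hne with h | h
    · refine ⟨j - i, by omega, by omega, ?_⟩
      have h1 : (tw (F := F) i) (s ^ q ^ (j - i)) = (tw (F := F) i) s := by
        rw [tw_apply, tw_apply, ← pow_mul, ← pow_add, Nat.sub_add_cancel h.le, he]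
      exact (tw (F := F) i).toRingHom.injective h1
    · refine ⟨i - j, by omega, by omega, ?_⟩
      have h1 : (tw (F := F) j) (s ^ q ^ (i - j)) = (tw (F := F) j) s := by
        rw [tw_apply, tw_apply, ← pow_mul, ← pow_add, Nat.sub_add_cancel h.le, he]
      exact (tw (F := F) j).toRingHom.injective h1
  have hper : ∀ m : ℕ, (fun x : K => x ^ q)^[m] s = s ^ q ^ m := fun m => by rw [pow_iterate]
  have h1 : Function.IsPeriodicPt (fun x : K => x ^ q) d s := by
    show (fun x : K => x ^ q)^[d] s = s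
    rw [hper, hd]
  have h2 : Function.IsPeriodicPt (fun x : K => x ^ q) r s := by
    show (fun x : K => x ^ q)^[r] s = s
    rw [hper, pow_q_rank]
  have h3 := h1.gcd h2
  have hg : Nat.gcd d r = 1 :=
    Nat.Coprime.symm ((hr.coprime_iff_not_dvd).2 fun h => absurd (Nat.le_of_dvd hd0 h) (by omega))
  rw [hg] at h3
  exact hs h3

omit hr in
theorem op_comp (c d : K) (m n : ℕ) :
    op (F := F) c m ∘ₗ op d n = op (c * d ^ q ^ m) (n + m) :=
  LinearMap.ext fun y => by
    simp [op_apply, mul_pow, ← pow_mul, ← pow_add, mul_assoc]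

omit hr in
theorem op_zero (d : K) : op (F := F) d 0 = LinearMap.mulLeft F d :=
  LinearMap.ext fun y => by simp [op_apply]

/-- The trace of a non-trivial twist. -/
theorem trace_op {d : K} {n : ℕ} (hn : n % r ≠ 0) : LinearMap.trace F K (op d n) = 0 := by
  obtain ⟨s, hs⟩ := exists_moved hr
  have hne : s ^ q ^ n - s ≠ 0 := fun e => hn (by
    refine hs (n % r) 0 (Nat.mod_lt _ hr.pos) hr.pos ?_
    rw [← pow_q_mod, pow_zero, pow_one]
    exact sub_eq_zero.1 e)
  have key : ∀ e : K, LinearMap.trace F K (op (e * (s ^ q ^ n - s)) n) = 0 := fun e => by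
    have h1 : op (F := F) (e * (s ^ q ^ n - s)) n =
        op e n ∘ₗ op s 0 - op s 0 ∘ₗ op e n := LinearMap.ext fun y => by
      simp [op_apply, mul_pow]; ring
    rw [h1, map_sub]
    show LinearMap.trace F K (op e n * op s 0) - LinearMap.trace F K (op s 0 * op e n) = 0
    rw [LinearMap.trace_mul_comm, sub_self]
  have := key (d * (s ^ q ^ n - s)⁻¹)
  rwa [mul_assoc, inv_mul_cancel₀ hne, mul_one] at this

theorem trace_op' (d : K) (n : ℕ) :
    LinearMap.trace F K (op d n) = if n % r = 0 then Algebra.trace F K d else 0 := by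
  split_ifs with h
  · rw [op_mod, h, op_zero, Algebra.trace_apply]
    rfl
  · exact trace_op hr h

/-- A set of maps closed under sums and composition with the multiplications and a map which is not
one contains all maps. -/
theorem mem_of_closed (S : Set (K →ₗ[F] K)) (hadd : ∀ X ∈ S, ∀ Y ∈ S, X + Y ∈ S)
    (hcomp : ∀ X ∈ S, ∀ Y ∈ S, X ∘ₗ Y ∈ S) (hmul : ∀ k : K, LinearMap.mulLeft F k ∈ S)
    {E : K →ₗ[F] K} (hE : E ∈ S) (hnot : ∀ k : K, E ≠ LinearMap.mulLeft F k) (X : K →ₗ[F] K) :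
    X ∈ S := by
  classical
  have hq := q_two_le (F := F)
  obtain ⟨s, hs⟩ := exists_moved hr
  obtain ⟨c, hc⟩ := exists_coeff E
  obtain ⟨i₀, hi₀, hci⟩ : ∃ i : Fin r, (i : ℕ) ≠ 0 ∧ c i ≠ 0 := by
    by_contra hc'
    push Not at hc'
    refine hnot (c ⟨0, hr.pos⟩) (LinearMap.ext fun x => ?_)
    rw [hc, Finset.sum_eq_single ⟨0, hr.pos⟩ (fun i _ hi => by
      rw [hc' i (fun e => hi (Fin.ext e)), zero_mul]) (by simp)]
    simp
  -- one component
  have hsep : ∀ J : Finset (Fin r), i₀ ∉ J → ∃ φ ∈ S, ∃ d : Fin r → K,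
      (∀ x, φ x = ∑ i, d i * x ^ q ^ (i : ℕ)) ∧ d i₀ ≠ 0 ∧ ∀ j ∈ J, d j = 0 := by
    intro J
    induction J using Finset.induction_on with
    | empty => exact fun _ => ⟨E, hE, c, hc, hci, by simp⟩
    | insert j J hj ih =>
      intro hJ
      rw [Finset.mem_insert, not_or] at hJ
      obtain ⟨φ, hφ, d, hd, hd0, hdJ⟩ := ih hJ.2
      refine ⟨φ ∘ₗ LinearMap.mulLeft F s + LinearMap.mulLeft F (-(s ^ q ^ (j : ℕ))) ∘ₗ φ,
        hadd _ (hcomp _ hφ _ (hmul _)) _ (hcomp _ (hmul _) _ hφ),
        fun i => d i * (s ^ q ^ (i : ℕ) - s ^ q ^ (j : ℕ)), fun x => ?_, ?_, ?_⟩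
      · simp only [LinearMap.add_apply, LinearMap.comp_apply, LinearMap.mulLeft_apply, hd,
          Finset.mul_sum, ← Finset.sum_add_distrib, mul_pow]
        exact Finset.sum_congr rfl fun i _ => by ring
      · exact mul_ne_zero hd0 (sub_ne_zero.2 fun e => hJ.1 (Fin.ext (hs _ _ i₀.2 j.2 e)))
      · intro i hi
        rcases Finset.mem_insert.1 hi with rfl | hi
        · simp
        · simp [hdJ i hi]
  obtain ⟨φ, hφ, d, hd, hd0, hdJ⟩ := hsep (Finset.univ.erase i₀) (Finset.notMem_erase _ _)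
  have hone : op (1 : K) (i₀ : ℕ) ∈ S := by
    have e : op (1 : K) (i₀ : ℕ) = LinearMap.mulLeft F (d i₀)⁻¹ ∘ₗ φ := LinearMap.ext fun x => by
      rw [LinearMap.comp_apply, LinearMap.mulLeft_apply, hd, Finset.sum_eq_single i₀
        (fun i _ hi => by rw [hdJ i (Finset.mem_erase.2 ⟨hi, Finset.mem_univ _⟩), zero_mul]) (by simp),
        op_apply, ← mul_assoc, inv_mul_cancel₀ hd0]
    rw [e]
    exact hcomp _ (hmul _) _ hφ
  have hall : ∀ (k : ℕ) (a : K), op a (k * (i₀ : ℕ)) ∈ S := by
    intro k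
    induction k with
    | zero => intro a; rw [zero_mul, op_zero]; exact hmul a
    | succ k ih =>
      intro a
      have e : op (F := F) a ((k + 1) * (i₀ : ℕ)) = op a (k * (i₀ : ℕ)) ∘ₗ op 1 (i₀ : ℕ) := by
        rw [op_comp, one_pow, mul_one, add_mul, one_mul, add_comm]
      rw [e]
      exact hcomp _ (ih a) _ hone
  obtain ⟨x, hx⟩ := exists_coeff X
  have e : X = ∑ i : Fin r, op (x i) (i : ℕ) := LinearMap.ext fun y => by
    simp [hx, op_apply]
  rw [e]
  refine Finset.sum_induction _ (· ∈ S) (fun a b ha hb => hadd a ha b hb) ?_ fun i _ => ?_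
  · simpa using hmul 0
  · obtain ⟨m, -, hm⟩ := Nat.exists_mul_mod_eq_one_of_coprime
      (Nat.Coprime.symm ((hr.coprime_iff_not_dvd).2 fun h =>
        absurd (Nat.le_of_dvd (Nat.pos_of_ne_zero hi₀) h) (by have := i₀.2; omega))) hr.one_lt
    have hm' : (m * (i : ℕ) * (i₀ : ℕ)) % r = (i : ℕ) := by
      rw [show m * (i : ℕ) * (i₀ : ℕ) = (i₀ : ℕ) * m * (i : ℕ) by ring, Nat.mul_mod, hm, one_mul,
        Nat.mod_mod, Nat.mod_eq_of_lt i.2]
    rw [← hm', ← op_mod]
    exact hall _ _

omit hr in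
/-- A map fixed by all squares of multiplications on both sides vanishes. -/
theorem eq_zero_of_square_invariant (hq : 3 ≤ q) (hr3 : 3 ≤ r) (φ : K →ₗ[F] K)
    (h : ∀ x : K, x ≠ 0 → ∀ y, x ^ 2 * φ (x ^ 2 * y) = φ y) : φ = 0 := by
  classical
  obtain ⟨c, hc⟩ := exists_coeff φ
  have hall : ∀ i : Fin r, c i = 0 := by
    intro i
    by_contra hci
    have hx : ∀ x : K, x ≠ 0 → x ^ (2 + 2 * q ^ (i : ℕ)) = 1 := by
      intro x hx
      have h1 : (fun j : Fin r => c j * (x ^ (2 + 2 * q ^ (j : ℕ)) - 1)) = 0 :=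
        coeff_unique fun y => by
          have h2 := h x hx y
          rw [← sub_eq_zero, hc, hc, Finset.mul_sum, ← Finset.sum_sub_distrib] at h2
          rw [← h2]
          exact Finset.sum_congr rfl fun j _ => by rw [mul_pow, ← pow_mul, pow_add]; ring
      exact sub_eq_zero.1 ((mul_eq_zero.1 (congrFun h1 i)).resolve_left hci)
    have hle : 2 + 2 * q ^ (i : ℕ) + 1 < Fintype.card K := by
      have h1 : q ^ (i : ℕ) ≤ q ^ (r - 1) :=
        Nat.pow_le_pow_right (by omega) (by have := i.2; omega)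
      have h2 : q ≤ q ^ (r - 1) := by
        simpa using Nat.pow_le_pow_right (show 0 < q by omega) (show 1 ≤ r - 1 by omega)
      have h3 : Fintype.card K = q * q ^ (r - 1) := by
        rw [card_eq (F := F) (K := K), ← pow_succ']; congr 1; omega
      have h4 : 3 * q ^ (r - 1) ≤ q * q ^ (r - 1) := Nat.mul_le_mul_right _ hq
      have h5 : 3 ^ 2 ≤ q ^ (r - 1) :=
        (Nat.pow_le_pow_left hq 2).trans (Nat.pow_le_pow_right (by omega) (by omega))
      norm_num at h5
      omega
    have h3 := coeff_eq_zero (K := K) (Finset.univ : Finset Bool) (fun b => if b then 1 else -1)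
      (fun b => if b then 2 + 2 * q ^ (i : ℕ) + 1 else 1)
      (fun b _ => by cases b <;> simp <;> omega)
      (fun x => by
        rcases eq_or_ne x 0 with rfl | hx0
        · simp
        · simp [pow_succ, hx x hx0]) 1
    rw [Finset.sum_filter] at h3
    simp at h3
  exact LinearMap.ext fun x => by simp [hc, hall]

omit hr in
/-- Digits of twice a sum of two powers. -/
theorem two_pow_inj {Q a b i : ℕ} (hQ : 3 ≤ Q) (hab : a ≠ b) (hi : i ≠ 0)
    (h : 2 * Q ^ a + 2 * Q ^ b = 2 * Q ^ i + 2) : (a = 0 ∧ b = i) ∨ (b = 0 ∧ a = i) := by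
  rcases Nat.eq_zero_or_pos a with ha | ha
  · left
    subst ha
    exact ⟨rfl, Nat.pow_right_injective (le_of_lt hQ) (by simp at h ⊢; omega)⟩
  · rcases Nat.eq_zero_or_pos b with hb | hb
    · right
      subst hb
      exact ⟨rfl, Nat.pow_right_injective (le_of_lt hQ) (by simp at h ⊢; omega)⟩
    · exfalso
      have h1 := congrArg (· % Q) h
      obtain ⟨a', rfl⟩ := Nat.exists_eq_add_of_le ha
      obtain ⟨b', rfl⟩ := Nat.exists_eq_add_of_le hb
      obtain ⟨i', rfl⟩ := Nat.exists_eq_add_of_le (Nat.pos_of_ne_zero hi)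
      simp [pow_add, pow_one, Nat.add_mod, Nat.mul_mod] at h1
      rw [Nat.mod_eq_of_lt (by omega : 2 < Q)] at h1
      omega

omit hr in
theorem trace_pow_q (z : K) (n : ℕ) : Algebra.trace F K (z ^ q ^ n) = Algebra.trace F K z := by
  rw [← tw_apply]
  exact Algebra.trace_eq_of_algEquiv ((FiniteField.frobeniusAlgEquivOfAlgebraic F K) ^ n) z

omit hr [Fintype F] [Fintype K] in
theorem trace_ext [FiniteDimensional F K] [Algebra.IsSeparable F K] {a b : K}
    (e : ∀ k, Algebra.trace F K (k * a) = Algebra.trace F K (k * b)) : a = b := by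
  rw [← sub_eq_zero]
  refine (traceForm_nondegenerate F K).1 _ fun k => ?_
  rw [Algebra.traceForm_apply, mul_comm, mul_sub, map_sub, e, sub_self]

/-- Skew for the trace form. -/
def Skew (φ : K →ₗ[F] K) : Prop :=
  ∀ a b, Algebra.trace F K (a * φ b) = -Algebra.trace F K (φ a * b)

/-- The coefficients of a skew map. -/
theorem skew_coeff (h2 : (2 : K) ≠ 0) {φ : K →ₗ[F] K} (hφ : Skew φ) {c : Fin r → K}
    (hc : ∀ x, φ x = ∑ i, c i * x ^ q ^ (i : ℕ)) (j : Fin r) :
    c ⟨(r - j) % r, Nat.mod_lt _ hr.pos⟩ ^ q ^ (j : ℕ) = -c j := by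
  classical
  have hstar : ∀ a : K, ∑ i : Fin r, (c i * a) ^ q ^ (r - i : ℕ) + φ a = 0 := fun a => by
    refine trace_ext (F := F) fun b => ?_
    have e : Algebra.trace F K (a * φ b) =
        Algebra.trace F K (b * ∑ i : Fin r, (c i * a) ^ q ^ (r - i : ℕ)) := by
      rw [hc, Finset.mul_sum, Finset.mul_sum, map_sum, map_sum]
      refine Finset.sum_congr rfl fun i _ => ?_
      rw [← trace_pow_q _ (r - i : ℕ), mul_pow, mul_pow, ← pow_mul, ← pow_add,
        Nat.add_sub_cancel' i.2.le, pow_q_rank, mul_pow]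
      ring_nf
    have h1 := hφ a b
    rw [e] at h1
    rw [mul_zero, map_zero, mul_add, map_add, h1, mul_comm b, neg_add_cancel]
  have h3 := coeff_eq_zero (K := K) (Finset.univ : Finset (Fin r ⊕ Fin r))
    (Sum.elim (fun i => c i ^ q ^ (r - i : ℕ)) c)
    (Sum.elim (fun i : Fin r => q ^ ((r - i) % r)) (fun i => q ^ (i : ℕ)))
    (fun i _ => by
      rcases i with i | i
      · exact pow_q_lt (F := F) (Nat.mod_lt _ hr.pos)
      · exact pow_q_lt (F := F) i.2)
    (fun a => by
      rw [← hstar a, hc a, Fintype.sum_sum_type]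
      refine congrArg₂ (· + ·) (Finset.sum_congr rfl fun i _ => ?_) rfl
      rw [Sum.elim_inl, Sum.elim_inl, mul_pow, ← pow_q_mod])
    (q ^ (j : ℕ))
  set i₀ : Fin r := ⟨(r - j) % r, Nat.mod_lt _ hr.pos⟩ with hi₀
  have hinv : ∀ i : Fin r, q ^ ((r - i) % r) = q ^ (j : ℕ) ↔ i = i₀ := fun i => by
    rw [Nat.pow_right_inj q_two_le, hi₀, Fin.ext_iff]
    simp only
    have hi := i.2
    have hj := j.2
    rcases Nat.eq_zero_or_pos (i : ℕ) with h | h <;> rcases Nat.eq_zero_or_pos (j : ℕ) with h' | h'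
    · simp [h, h']
    · simp only [h, Nat.sub_zero, Nat.mod_self]
      rw [Nat.mod_eq_of_lt (by omega : r - (j : ℕ) < r)]
      omega
    · simp only [h', Nat.sub_zero, Nat.mod_self]
      rw [Nat.mod_eq_of_lt (by omega : r - (i : ℕ) < r)]
      omega
    · rw [Nat.mod_eq_of_lt (by omega : r - (i : ℕ) < r), Nat.mod_eq_of_lt (by omega : r - (j : ℕ) < r)]
      omega
  rw [Finset.sum_filter, Fintype.sum_sum_type] at h3
  simp only [Sum.elim_inl, Sum.elim_inr, hinv, Nat.pow_right_inj q_two_le, ← Fin.ext_iff,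
    Finset.sum_ite_eq', Finset.mem_univ, if_true] at h3
  rcases Nat.eq_zero_or_pos (j : ℕ) with h' | h'
  · have e : i₀ = j := Fin.ext (by simp [hi₀, h'])
    rw [e, h', Nat.sub_zero, pow_q_rank] at h3
    have hj0 : c j = 0 := (mul_eq_zero.1 (show (2 : K) * c j = 0 by linear_combination h3)).resolve_left h2
    rw [e, hj0, zero_pow (pow_ne_zero _ (by have := q_two_le (F := F); omega)), neg_zero]
  · have e : r - (i₀ : ℕ) = j := by
      rw [hi₀]
      simp only
      rw [Nat.mod_eq_of_lt (by omega : r - (j : ℕ) < r)]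
      have := j.2
      omega
    rw [e] at h3
    exact eq_neg_of_add_eq_zero_left h3

/-- A non-zero skew map has a square twist with non-zero trace. -/
theorem exists_trace_ne (hq : 3 ≤ q) (h2 : (2 : K) ≠ 0) {φ : K →ₗ[F] K} (hφ : Skew φ)
    (h0 : φ ≠ 0) {b : K} (hb : b ≠ 0) :
    ∃ x : K, x ≠ 0 ∧ LinearMap.trace F K ((φ ∘ₗ LinearMap.mulLeft F (x ^ 2 * b)) ∘ₗ
      (φ ∘ₗ LinearMap.mulLeft F (x ^ 2 * b))) ≠ 0 := by
  classical
  obtain ⟨c, hc⟩ := exists_coeff φ
  have hsk := skew_coeff hr h2 hφ hc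
  obtain ⟨i₀, hci⟩ : ∃ i, c i ≠ 0 := by
    by_contra hc'
    push Not at hc'
    exact h0 (LinearMap.ext fun x => by simp [hc, hc'])
  have hi0 : (i₀ : ℕ) ≠ 0 := fun e => by
    have h1 := hsk i₀
    have e' : (⟨(r - i₀) % r, Nat.mod_lt _ hr.pos⟩ : Fin r) = i₀ := Fin.ext (by simp [e])
    rw [e', e, pow_zero, pow_one] at h1
    exact hci ((mul_eq_zero.1 (show (2 : K) * c i₀ = 0 by linear_combination h1)).resolve_left h2)
  -- the trace
  have htr : ∀ m : K, LinearMap.trace F K ((φ ∘ₗ LinearMap.mulLeft F m) ∘ₗ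
      (φ ∘ₗ LinearMap.mulLeft F m)) =
      -∑ i : Fin r, Algebra.trace F K (c i ^ 2 * m * m ^ q ^ (i : ℕ)) := by
    intro m
    have e : φ ∘ₗ LinearMap.mulLeft F m = ∑ i : Fin r, op (c i * m ^ q ^ (i : ℕ)) (i : ℕ) :=
      LinearMap.ext fun y => by simp [hc, op_apply, mul_pow, mul_assoc]
    rw [e]
    have e2 : (∑ i : Fin r, op (c i * m ^ q ^ (i : ℕ)) (i : ℕ)) ∘ₗ
        (∑ k : Fin r, op (c k * m ^ q ^ (k : ℕ)) (k : ℕ)) = ∑ i : Fin r, ∑ k : Fin r,
        op (F := F) (c i * m ^ q ^ (i : ℕ) * (c k * m ^ q ^ (k : ℕ)) ^ q ^ (i : ℕ)) ((k : ℕ) + i) :=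
      LinearMap.ext fun y => by
        simp only [LinearMap.comp_apply, LinearMap.sum_apply, op_apply]
        refine Finset.sum_congr rfl fun i _ => ?_
        simp only [← tw_apply (F := F) (i : ℕ), map_sum, Finset.mul_sum]
        refine Finset.sum_congr rfl fun k _ => ?_
        simp only [tw_apply, mul_pow, ← pow_mul, ← pow_add]
        ring
    rw [e2]
    simp only [map_sum, trace_op' hr]
    rw [← Finset.sum_neg_distrib]
    refine Finset.sum_congr rfl fun i _ => ?_
    set k₀ : Fin r := ⟨(r - i) % r, Nat.mod_lt _ hr.pos⟩ with hk₀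
    have hmod : ∀ k : Fin r, ((k : ℕ) + i) % r = 0 ↔ k = k₀ := fun k => by
      have hk := k.2
      have hi := i.2
      rw [hk₀, Fin.ext_iff]
      simp only
      rcases Nat.eq_zero_or_pos (i : ℕ) with h | h
      · simp only [h, add_zero, Nat.sub_zero, Nat.mod_self, Nat.mod_eq_of_lt hk]
      · rw [Nat.mod_eq_of_lt (by omega : r - (i : ℕ) < r)]
        rcases Nat.lt_or_ge ((k : ℕ) + i) r with h' | h'
        · rw [Nat.mod_eq_of_lt h']; omega
        · rw [Nat.mod_eq_sub_mod h', Nat.mod_eq_of_lt (by omega)]; omega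
    simp only [hmod, Finset.sum_ite_eq', Finset.mem_univ, if_true]
    rw [← map_neg]
    congr 1
    rw [mul_pow, hsk, ← pow_mul, ← pow_add]
    have e3 : m ^ q ^ ((k₀ : ℕ) + i) = m := by
      rw [pow_q_mod, (hmod k₀).2 rfl, pow_zero, pow_one]
    rw [e3]
    ring
  by_contra hcon
  push Not at hcon
  have hzero : ∀ x : K, ∑ i : Fin r, Algebra.trace F K
      (c i ^ 2 * (x ^ 2 * b) * (x ^ 2 * b) ^ q ^ (i : ℕ)) = 0 := by
    intro x
    rcases eq_or_ne x 0 with rfl | hx
    · simp [zero_pow]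
    · have := hcon x hx
      rw [htr, neg_eq_zero] at this
      exact this
  -- as a polynomial
  set T : Finset (Fin r × Fin r) := Finset.univ.filter fun p => (p.1 : ℕ) ≠ 0 with hT
  set co : Fin r × Fin r → K := fun p =>
    (c p.1 ^ 2 * b * b ^ q ^ (p.1 : ℕ)) ^ q ^ (p.2 : ℕ) with hco
  set ex : Fin r × Fin r → ℕ := fun p =>
    2 * q ^ (p.2 : ℕ) + 2 * q ^ (((p.1 : ℕ) + p.2) % r) with hex
  have hne : ∀ p ∈ T, (p.2 : ℕ) ≠ ((p.1 : ℕ) + p.2) % r := by
    intro p hp
    have h1 : (p.1 : ℕ) ≠ 0 := (Finset.mem_filter.1 hp).2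
    have := p.1.2
    have := p.2.2
    rcases Nat.lt_or_ge ((p.1 : ℕ) + p.2) r with h' | h'
    · rw [Nat.mod_eq_of_lt h']; omega
    · rw [Nat.mod_eq_sub_mod h', Nat.mod_eq_of_lt (by omega)]; omega
  have hb2 : ∀ a b' : ℕ, a < b' → b' < r → 2 * q ^ a + 2 * q ^ b' < Fintype.card K := by
    intro a b' hab hbr
    have h1 : q * q ^ a ≤ q ^ b' := by
      rw [← pow_succ']; exact Nat.pow_le_pow_right (by omega) hab
    have h2 : q * q ^ b' ≤ q ^ r := by
      rw [← pow_succ']; exact Nat.pow_le_pow_right (by omega) hbr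
    have h3 : 3 * q ^ b' ≤ q * q ^ b' := Nat.mul_le_mul_right _ hq
    have h4 : 3 * q ^ a ≤ q * q ^ a := Nat.mul_le_mul_right _ hq
    have h5 : 0 < q ^ a := Nat.pow_pos (by omega)
    rw [card_eq (F := F) (K := K)]
    omega
  have hP := coeff_eq_zero (K := K) T co ex (fun p hp => by
      rcases Nat.lt_or_gt_of_ne (hne p hp) with h' | h'
      · exact hb2 _ _ h' (Nat.mod_lt _ hr.pos)
      · simp only [hex]; rw [add_comm]; exact hb2 _ _ h' p.2.2)
    (fun x => by
      have h3 := congrArg (algebraMap F K) (hzero x)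
      rw [map_sum, map_zero] at h3
      rw [← h3, hT, Finset.sum_filter, Fintype.sum_prod_type]
      refine Finset.sum_congr rfl fun i _ => ?_
      rw [FiniteField.algebraMap_trace_eq_sum_pow, Nat.card_eq_fintype_card, Finset.sum_range]
      refine Finset.sum_congr rfl fun j _ => ?_
      by_cases hi : (i : ℕ) = 0
      · have hc0 : c i = 0 := by
          have h1 := hsk i
          have e' : (⟨(r - i) % r, Nat.mod_lt _ hr.pos⟩ : Fin r) = i := Fin.ext (by simp [hi])
          rw [e', hi, pow_zero, pow_one] at h1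
          exact (mul_eq_zero.1 (show (2 : K) * c i = 0 by linear_combination h1)).resolve_left h2
        have hz : (0 : K) ^ q ^ (j : ℕ) = 0 := zero_pow (pow_ne_zero _ (by omega))
        simp [hi, hc0, hz]
      · simp only [hi, ne_eq, not_false_eq_true, if_true, hco, hex]
        rw [pow_add, pow_mul x 2, pow_mul x 2, ← pow_q_mod, mul_pow (x ^ 2) b (q ^ (i : ℕ)),
          show c i ^ 2 * (x ^ 2 * b) * ((x ^ 2) ^ q ^ (i : ℕ) * b ^ q ^ (i : ℕ)) =
            (c i ^ 2 * b * b ^ q ^ (i : ℕ)) * (x ^ 2 * (x ^ 2) ^ q ^ (i : ℕ)) by ring,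
          mul_pow (c i ^ 2 * b * b ^ q ^ (i : ℕ)), mul_pow (x ^ 2) ((x ^ 2) ^ q ^ (i : ℕ)),
          ← pow_mul (x ^ 2) (q ^ (i : ℕ)), pow_add q]
      )
    (2 * q ^ (i₀ : ℕ) + 2)
  set i₁ : Fin r := ⟨(r - i₀) % r, Nat.mod_lt _ hr.pos⟩ with hi₁
  have hi₁v : (i₁ : ℕ) = r - i₀ := Nat.mod_eq_of_lt (by have := i₀.2; omega)
  set j0 : Fin r := ⟨0, hr.pos⟩ with hj0
  have hfil : (T.filter fun p => ex p = 2 * q ^ (i₀ : ℕ) + 2) = {(i₀, j0), (i₁, i₀)} := by
    ext p
    simp only [Finset.mem_filter, Finset.mem_insert, Finset.mem_singleton]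
    constructor
    · rintro ⟨hp, he⟩
      have hp1 := p.1.2
      have hp2 := p.2.2
      have hi := i₀.2
      rcases two_pow_inj hq (hne p hp) hi0 he with ⟨ha, hb'⟩ | ⟨hb', ha⟩
      · left
        rw [ha, add_zero, Nat.mod_eq_of_lt hp1] at hb'
        exact Prod.ext (Fin.ext hb') (Fin.ext ha)
      · right
        refine Prod.ext (Fin.ext ?_) (Fin.ext ha)
        rw [hi₁v]
        rw [ha] at hb'
        rcases Nat.lt_or_ge ((p.1 : ℕ) + i₀) r with h' | h'
        · rw [Nat.mod_eq_of_lt h'] at hb'; omega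
        · rw [Nat.mod_eq_sub_mod h', Nat.mod_eq_of_lt (by omega)] at hb'; omega
    · rintro (rfl | rfl)
      · simp [hT, hex, hi0, hj0, Nat.mod_eq_of_lt i₀.2, add_comm]
      · have hi := i₀.2
        refine ⟨by simp [hT, hi₁v]; omega, ?_⟩
        simp only [hex, hi₁v]
        rw [Nat.sub_add_cancel hi.le, Nat.mod_self, pow_zero, mul_one]
  rw [hfil, Finset.sum_pair (fun e => hi0 (by have := congrArg (fun p => (p.2 : ℕ)) e; simpa [hj0] using this.symm))]
    at hP
  have e1 : co (i₁, i₀) = co (i₀, j0) := by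
    simp only [hco, hj0, pow_zero, pow_one, hi₁v]
    rw [mul_pow, mul_pow, ← pow_mul, mul_comm 2, pow_mul, hsk, ← pow_mul, ← pow_add,
      Nat.sub_add_cancel i₀.2.le, pow_q_rank]
    ring
  rw [e1, hco] at hP
  simp only [hj0, pow_zero, pow_one, ← two_mul] at hP
  simp [h2, hci, hb] at hP

omit hr in
/-- A skew map of odd rank is singular. -/
theorem skew_ker (hodd : Odd r) (h2 : (2 : F) ≠ 0) {φ : K →ₗ[F] K} (hφ : Skew φ) :
    ∃ x, x ≠ 0 ∧ φ x = 0 := by
  classical
  set bs := Module.finBasis F K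
  set A : Matrix (Fin r) (Fin r) F := Matrix.of fun i j => Algebra.trace F K (bs i * φ (bs j))
  have hA : A.transpose = -A := Matrix.ext fun i j => by
    simp [A, hφ (bs j) (bs i), mul_comm]
  have hdet : A.det = 0 := by
    have h1 := congrArg Matrix.det hA
    rw [Matrix.det_transpose, Matrix.det_neg, Fintype.card_fin, hodd.neg_one_pow, neg_one_mul] at h1
    exact (mul_eq_zero.1 (show (2 : F) * A.det = 0 by linear_combination h1)).resolve_left h2
  obtain ⟨v, hv0, hv⟩ := Matrix.exists_mulVec_eq_zero_iff.2 hdet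
  refine ⟨∑ j, v j • bs j, fun e => hv0 ?_, ?_⟩
  · funext i
    exact Fintype.linearIndependent_iff.1 bs.linearIndependent v e i
  · refine trace_ext (F := F) fun k => ?_
    rw [mul_zero, map_zero]
    set L : K →ₗ[F] F := Algebra.trace F K ∘ₗ LinearMap.mulRight F (φ (∑ j, v j • bs j))
    suffices L = 0 by simpa [L] using LinearMap.congr_fun this k
    refine bs.ext fun i => ?_
    have := congrFun hv i
    simp only [Matrix.mulVec, dotProduct, A, Matrix.of_apply, Pi.zero_apply] at this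
    simp only [L, LinearMap.comp_apply, LinearMap.mulRight_apply, map_sum, map_smul,
      LinearMap.zero_apply, Finset.mul_sum, mul_smul_comm, smul_eq_mul]
    rw [← this]
    exact Finset.sum_congr rfl fun j _ => mul_comm _ _

end Cfsg.Lib.Linear.OrthExtThree
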