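import Cfsg.Agent.Lib.Linear.OrthExt.Basic
import Cfsg.Agent.Lib.Linear.OrthExtThree.Twist

/-!
# Orthogonal groups of dimension three over an extension field: coordinates

The unipotent elements, the reflection of the torus, semilinear elements, and elements fixing the
singular line.
-/

set_option autoImplicit false
set_option linter.unusedSectionVars false

namespace Cfsg.Lib.Linear.OrthExtThree

open Module
open scoped Matrix
open Cfsg.Lib.Linear.Orth
open Cfsg.Lib.Linear.OrthExt (ac)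

variable {ι : Type} [Fintype ι] [DecidableEq ι] {F K : Type*} [Field F] [Field K] [Algebra F K]
  [Module K (ι → F)] [IsScalarTower F K (ι → F)]
  {Q : (ι → F) → F} {B : LinearMap.BilinForm F (ι → F)} {e : (ι → F) ≃ₗ[K] K × K × K} {ν : K}
  {L : Subgroup (GL ι F)}

local notation "𝕍" => (ι → F)
local notation "W" => K × K × K

/-- The form in coordinates. -/
def hh (ν : K) (u v : W) : K := u.1 * v.2.2 + u.2.2 * v.1 + ν * u.2.1 * v.2.1

/-- Coordinates for the trace of a form with a singular vector in dimension three. -/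
structure Frame (Q : 𝕍 → F) (B : LinearMap.BilinForm F 𝕍) (e : 𝕍 ≃ₗ[K] W) (ν : K) : Prop where
  space : Space Q B
  two : (2 : F) ≠ 0
  ne : ν ≠ 0
  tr : ∀ x y, B x y = Algebra.trace F K (hh ν (e x) (e y))

/-- An element in coordinates. -/
def co (e : 𝕍 ≃ₗ[K] W) (X : GL ι F) : W ≃ₗ[F] W :=
  (e.symm.restrictScalars F).trans ((ac X).trans (e.restrictScalars F))

theorem co_apply (X : GL ι F) (u : W) : co e X u = e (X.val *ᵥ e.symm u) := rfl

theorem co_mul (X Y : GL ι F) (u : W) : co e (X * Y) u = co e X (co e Y u) := by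
  simp [co_apply]

theorem co_one (u : W) : co e (1 : GL ι F) u = u := by simp [co_apply]

theorem co_inv (X : GL ι F) (u : W) : co e X (co e X⁻¹ u) = u := by
  rw [← co_mul, mul_inv_cancel, co_one]

theorem co_inv' (X : GL ι F) (u : W) : co e X⁻¹ (co e X u) = u := by
  rw [← co_mul, inv_mul_cancel, co_one]

theorem co_ext {X Y : GL ι F} (H : ∀ u, co e X u = co e Y u) : X = Y :=
  gl_ext fun v => by simpa [co_apply] using H (e v)

/-- A function realised in the group. -/
def Mem (e : 𝕍 ≃ₗ[K] W) (L : Subgroup (GL ι F)) (f : W → W) : Prop :=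
  ∃ X ∈ L, ∀ u, co e X u = f u

theorem Mem.comp {f g : W → W} (hf : Mem e L f) (hg : Mem e L g) : Mem e L fun u => f (g u) := by
  obtain ⟨X, hX, hXu⟩ := hf
  obtain ⟨Y, hY, hYu⟩ := hg
  exact ⟨X * Y, L.mul_mem hX hY, fun u => by rw [co_mul, hYu, hXu]⟩

theorem Mem.congr {f g : W → W} (hf : Mem e L f) (h : ∀ u, f u = g u) : Mem e L g := by
  obtain ⟨X, hX, hXu⟩ := hf
  exact ⟨X, hX, fun u => (hXu u).trans (h u)⟩

theorem Mem.unique {f : W → W} (hf : Mem e L f) {Y : GL ι F} (hY : ∀ u, co e Y u = f u) : Y ∈ L := by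
  obtain ⟨X, hX, hXu⟩ := hf
  exact co_ext (e := e) (fun u => (hXu u).trans (hY u).symm) ▸ hX

/-- The unipotent element fixing the first axis. -/
def uaMap (ν a : K) (u : W) : W :=
  (u.1 - ν * a * u.2.1 - 2⁻¹ * ν * a ^ 2 * u.2.2, u.2.1 + a * u.2.2, u.2.2)

/-- The unipotent element fixing the third axis. -/
def ufMap (ν a : K) (u : W) : W :=
  (u.1, u.2.1 + a * u.1, u.2.2 - ν * a * u.2.1 - 2⁻¹ * ν * a ^ 2 * u.1)

/-- The element exchanging the two singular axes. -/
def wMap (ν : K) (u : W) : W := (-(ν / 2) * u.2.2, -u.2.1, -(2 / ν) * u.1)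

/-- The torus. -/
def tMap (s : K) (u : W) : W := (s * u.1, u.2.1, s⁻¹ * u.2.2)

/-- The central root map. -/
def zMap (φ : K →ₗ[F] K) (u : W) : W := (u.1 + φ u.2.2, u.2.1, u.2.2)

/-- A group of isometries containing the unipotent elements. -/
structure Over (Q : 𝕍 → F) (B : LinearMap.BilinForm F 𝕍) (e : 𝕍 ≃ₗ[K] W) (ν : K)
    (L : Subgroup (GL ι F)) : Prop where
  frame : Frame Q B e ν
  le : L ≤ isometryGroup F Q
  ua : ∀ a, Mem e L (uaMap ν a)
  uf : ∀ a, Mem e L (ufMap ν a)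

theorem uaMap_add (h2 : (2 : K) ≠ 0) (a b : K) (u : W) :
    uaMap ν a (uaMap ν b u) = uaMap ν (a + b) u := by
  simp only [uaMap, Prod.mk.injEq]
  refine ⟨?_, by ring, trivial⟩
  field_simp
  ring

theorem uaMap_zero (u : W) : uaMap ν 0 u = u := by simp [uaMap]

theorem Frame.two' (D : Frame Q B e ν) : (2 : K) ≠ 0 := by
  rw [← map_ofNat (algebraMap F K) 2]
  exact fun h => D.two ((algebraMap F K).injective (by rw [h, map_zero]))

theorem Frame.iso (D : Frame Q B e ν) {X : GL ι F} (hX : X ∈ isometryGroup F Q) (u v : W) :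
    Algebra.trace F K (hh ν (co e X u) (co e X v)) = Algebra.trace F K (hh ν u v) := by
  rw [co_apply, co_apply, ← D.tr, D.space.B_act hX, D.tr, e.apply_symm_apply, e.apply_symm_apply]

theorem Over.w (H : Over Q B e ν L) : Mem e L (wMap ν) := by
  have h2 := H.frame.two'
  have hν := H.frame.ne
  refine (((H.ua 1).comp (H.uf (2 / ν))).comp (H.ua 1)).congr fun u => ?_
  simp only [uaMap, ufMap, wMap, Prod.mk.injEq]
  refine ⟨?_, ?_, ?_⟩ <;> field_simp <;> ring

theorem Over.torus (H : Over Q B e ν L) {a : K} (ha : a ≠ 0) : Mem e L (tMap (a ^ 2)) := by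
  have h2 := H.frame.two'
  have hν := H.frame.ne
  refine ((((H.ua a).comp (H.uf (2 / (ν * a)))).comp (H.ua a)).comp H.w).congr fun u => ?_
  simp only [uaMap, ufMap, wMap, tMap, Prod.mk.injEq]
  refine ⟨?_, ?_, ?_⟩ <;> field_simp <;> ring

/-- Semilinearity in coordinates. -/
def Semi (e : 𝕍 ≃ₗ[K] W) (X : GL ι F) : Prop :=
  ∀ k : K, ∃ k' : K, ∀ u, co e X (k • u) = k' • co e X u

theorem Semi.mul {X Y : GL ι F} (hX : Semi e X) (hY : Semi e Y) : Semi e (X * Y) := by
  intro k
  obtain ⟨k', hk'⟩ := hY k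
  obtain ⟨k'', hk''⟩ := hX k'
  exact ⟨k'', fun u => by rw [co_mul, co_mul, hk', hk'']⟩

/-- An element commuting with the scalars. -/
theorem semi_of_lin {X : GL ι F} (hX : ∀ (k : K) u, co e X (k • u) = k • co e X u) : Semi e X :=
  fun k => ⟨k, hX k⟩

theorem Mem.semi {f : W → W} (hf : ∀ (k : K) u, f (k • u) = k • f u) {X : GL ι F}
    (hX : ∀ u, co e X u = f u) : Semi e X :=
  semi_of_lin fun k u => by rw [hX, hX, hf]

theorem uaMap_smul (a k : K) (u : W) : uaMap ν a (k • u) = k • uaMap ν a u := by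
  simp only [uaMap, Prod.smul_fst, Prod.smul_snd, Prod.smul_mk, smul_eq_mul, Prod.mk.injEq]
  refine ⟨?_, ?_, trivial⟩ <;> ring

theorem wMap_smul (k : K) (u : W) : wMap ν (k • u) = k • wMap ν u := by
  simp only [wMap, Prod.smul_fst, Prod.smul_snd, Prod.smul_mk, smul_eq_mul, Prod.mk.injEq]
  refine ⟨?_, ?_, ?_⟩ <;> ring

/-- The element preserves the first axis. -/
def Pres (e : 𝕍 ≃ₗ[K] W) (X : GL ι F) : Prop :=
  ∀ x : K, ∃ x' : K, co e X (x, 0, 0) = (x', 0, 0)

section Finite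

variable [Fintype F] [Fintype K]

theorem Frame.ext (D : Frame Q B e ν) {u v : W}
    (h : ∀ x, Algebra.trace F K (hh ν x u) = Algebra.trace F K (hh ν x v)) : u = v := by
  have e1 : u.2.2 = v.2.2 := trace_ext (F := F) fun k => by simpa [hh] using h (k, 0, 0)
  have e2 : u.1 = v.1 := trace_ext (F := F) fun k => by simpa [hh] using h (0, 0, k)
  have e3 : ν * u.2.1 = ν * v.2.1 := trace_ext (F := F) fun k => by
    simpa [hh, mul_comm ν k, mul_assoc] using h (0, k, 0)
  exact Prod.ext e2 (Prod.ext (mul_left_cancel₀ D.ne e3) e1)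

/-- An element fixing the first two axes. -/
theorem Frame.uni_ext (D : Frame Q B e ν) {X : GL ι F} (hX : X ∈ isometryGroup F Q)
    (h1 : ∀ x, co e X (x, 0, 0) = (x, 0, 0)) (h2 : ∀ y, co e X (0, y, 0) = (0, y, 0)) :
    ∃ φ : K →ₗ[F] K, Skew φ ∧ ∀ u, co e X u = zMap φ u := by
  let φ : K →ₗ[F] K := LinearMap.fst F K (K × K) ∘ₗ (co e X : W →ₗ[F] W) ∘ₗ
    LinearMap.inr F K (K × K) ∘ₗ LinearMap.inr F K K
  have hz : ∀ z, co e X (0, 0, z) = (φ z, 0, z) := by
    intro z
    set v := co e X (0, 0, z) with hv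
    have e3 : v.2.2 = z := trace_ext (F := F) fun k => by
      have := D.iso hX (k, 0, 0) (0, 0, z)
      rw [h1, ← hv] at this
      simpa [hh] using this
    have e2 : ν * v.2.1 = 0 := trace_ext (F := F) fun k => by
      have := D.iso hX (0, k, 0) (0, 0, z)
      rw [h2, ← hv] at this
      simpa [hh, mul_comm ν k, mul_assoc] using this
    exact Prod.ext (by simp [φ, hv]) (Prod.ext ((mul_eq_zero.1 e2).resolve_left D.ne) e3)
  refine ⟨φ, fun a b => ?_, fun u => ?_⟩
  · have := D.iso hX (0, 0, a) (0, 0, b)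
    rw [hz, hz] at this
    simp [hh] at this
    rw [eq_neg_iff_add_eq_zero]
    linear_combination this
  · have e1 : u = (u.1, 0, 0) + (0, u.2.1, 0) + (0, 0, u.2.2) := by simp
    conv_lhs => rw [e1, map_add, map_add, h1, h2, hz]
    simp [zMap]

/-- The shape of an element preserving the first axis. -/
theorem Frame.tri (D : Frame Q B e ν) {X : GL ι F} (hX : X ∈ isometryGroup F Q) (hP : Pres e X) :
    ∃ A β C : K →ₗ[F] K, ∃ D' : K →ₗ[F] K, Function.Bijective A ∧ Function.Bijective C ∧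
      Function.Bijective D' ∧ (∀ x, co e X (x, 0, 0) = (A x, 0, 0)) ∧
      (∀ y, co e X (0, y, 0) = (β y, C y, 0)) ∧ ∀ u, (co e X u).2.2 = D' u.2.2 := by
  let T : W →ₗ[F] W := (co e X : W →ₗ[F] W)
  let A : K →ₗ[F] K := LinearMap.fst F K (K × K) ∘ₗ T ∘ₗ LinearMap.inl F K (K × K)
  let β : K →ₗ[F] K :=
    LinearMap.fst F K (K × K) ∘ₗ T ∘ₗ LinearMap.inr F K (K × K) ∘ₗ LinearMap.inl F K K
  let C : K →ₗ[F] K := (LinearMap.fst F K K ∘ₗ LinearMap.snd F K (K × K)) ∘ₗ T ∘ₗ
    LinearMap.inr F K (K × K) ∘ₗ LinearMap.inl F K K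
  let D' : K →ₗ[F] K := (LinearMap.snd F K K ∘ₗ LinearMap.snd F K (K × K)) ∘ₗ T ∘ₗ
    LinearMap.inr F K (K × K) ∘ₗ LinearMap.inr F K K
  have hA : ∀ x, co e X (x, 0, 0) = (A x, 0, 0) := fun x => by
    obtain ⟨x', hx'⟩ := hP x
    show co e X (x, 0, 0) = ((co e X (x, 0, 0)).1, (0 : K), (0 : K))
    rw [hx']
  have hAb : Function.Bijective A := by
    refine Finite.injective_iff_bijective.1 ((injective_iff_map_eq_zero A).2 fun x hx => ?_)
    have := hA x
    rw [hx] at this
    simpa using (co e X).injective (this.trans (map_zero (co e X)).symm)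
  have hC : ∀ y, co e X (0, y, 0) = (β y, C y, 0) := fun y => by
    have e3 : (co e X (0, y, 0)).2.2 = 0 := trace_ext (F := F) fun k => by
      obtain ⟨x, rfl⟩ := hAb.2 k
      have := D.iso hX (x, 0, 0) (0, y, 0)
      rw [hA] at this
      simpa [hh] using this
    exact Prod.ext (by simp [β, T]) (Prod.ext (by simp [C, T]) e3)
  have hCb : Function.Bijective C := by
    refine Finite.injective_iff_bijective.1 ((injective_iff_map_eq_zero C).2 fun y hy => ?_)
    obtain ⟨x, hx⟩ := hAb.2 (β y)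
    have := hC y
    rw [hy, ← hx, ← hA] at this
    simpa using congrArg (fun u : W => u.2.1) ((co e X).injective this)
  have hD : ∀ u, (co e X u).2.2 = D' u.2.2 := fun u => by
    have e1 : u = (u.1, 0, 0) + (0, u.2.1, 0) + (0, 0, u.2.2) := by simp
    conv_lhs => rw [e1, map_add, map_add, hA, hC]
    simp [D', T]
  have hDb : Function.Bijective D' := by
    refine Finite.surjective_iff_bijective.1 fun z => ?_
    exact ⟨(co e X⁻¹ (0, 0, z)).2.2, by rw [← hD, co_inv]⟩
  exact ⟨A, β, C, D', hAb, hCb, hDb, hA, hC, hD⟩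

end Finite

end Cfsg.Lib.Linear.OrthExtThree
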