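import Cfsg.Agent.Lib.Linear.OrthExtThree.Orbit
import Cfsg.Agent.Lib.Linear.OOTensor.MinusFour.Quad

/-!
# A cubic invariant for extensions of degree three

For a base-rational frame the trace of the determinant is preserved by the semilinear elements of
determinant one, and only by semilinear elements.  Its orbit sums along the unipotent elements
vanish in low weight, and the exchange of the two axes reverses the weights.
-/

set_option autoImplicit false
set_option linter.unusedSectionVars false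

namespace Cfsg.Lib.Linear.OrthExtThree

open Module
open scoped Matrix
open Cfsg.Lib.Linear.Orth
open Cfsg.Lib.Linear.OOTensor.MinusFour (Deg2 DegV2)

section Algebra

variable {K : Type*} [Field K]

local notation "W" => K × K × K

/-- The determinant of three vectors. -/
def det3 (u v z : W) : K :=
  (u.2.1 * v.2.2 - u.2.2 * v.2.1) * z.1 + (u.2.2 * v.1 - u.1 * v.2.2) * z.2.1 +
    (u.1 * v.2.1 - u.2.1 * v.1) * z.2.2

/-- The vector product for the form. -/
def cr (ν : K) (u v : W) : W :=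
  (u.1 * v.2.1 - u.2.1 * v.1, ν⁻¹ * (u.2.2 * v.1 - u.1 * v.2.2), u.2.1 * v.2.2 - u.2.2 * v.2.1)

theorem hh_cr {ν : K} (hν : ν ≠ 0) (u v z : W) : hh ν (cr ν u v) z = det3 u v z := by
  simp only [hh, cr, det3]
  field_simp
  ring

theorem det3_gram (ν : K) (u v z : W) :
    det3 u v z * det3 u v z * (-ν) =
      hh ν u u * (hh ν v v * hh ν z z - hh ν v z * hh ν z v) -
        hh ν u v * (hh ν v u * hh ν z z - hh ν v z * hh ν z u) +
          hh ν u z * (hh ν v u * hh ν z v - hh ν v v * hh ν z u) := by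
  simp only [hh, det3]
  ring

theorem det3_comb (u v z a b c : W) :
    det3 (u.1 • a + u.2.1 • b + u.2.2 • c) (v.1 • a + v.2.1 • b + v.2.2 • c)
      (z.1 • a + z.2.1 • b + z.2.2 • c) = det3 u v z * det3 a b c := by
  simp only [det3, Prod.fst_add, Prod.snd_add, Prod.smul_fst, Prod.smul_snd, smul_eq_mul]
  ring

theorem cr_smul_self (ν : K) (k : K) (u : W) : cr ν u (k • u) = 0 := by
  simp only [cr, Prod.smul_fst, Prod.smul_snd, smul_eq_mul]
  refine Prod.ext ?_ (Prod.ext ?_ ?_) <;> simp <;> ring_nf <;> simp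

theorem exists_smul_of_cr {ν : K} (hν : ν ≠ 0) {u v : W} (hu : u ≠ 0) (h : cr ν u v = 0) :
    ∃ k : K, v = k • u := by
  simp only [cr, Prod.mk_eq_zero, mul_eq_zero, inv_eq_zero, hν, false_or] at h
  obtain ⟨h1, h2, h3⟩ := h
  by_cases a : u.1 = 0
  · by_cases b : u.2.1 = 0
    · have c : u.2.2 ≠ 0 := fun c => hu (Prod.ext a (Prod.ext b c))
      refine ⟨v.2.2 / u.2.2, Prod.ext ?_ (Prod.ext ?_ ?_)⟩ <;>
        simp only [Prod.smul_fst, Prod.smul_snd, smul_eq_mul] <;> field_simp
      · linear_combination h2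
      · linear_combination -h3
    · refine ⟨v.2.1 / u.2.1, Prod.ext ?_ (Prod.ext ?_ ?_)⟩ <;>
        simp only [Prod.smul_fst, Prod.smul_snd, smul_eq_mul] <;> field_simp
      · linear_combination -h1
      · linear_combination h3
  · refine ⟨v.1 / u.1, Prod.ext ?_ (Prod.ext ?_ ?_)⟩ <;>
      simp only [Prod.smul_fst, Prod.smul_snd, smul_eq_mul] <;> field_simp
    · linear_combination h1
    · linear_combination -h2

/-- The three axes. -/
def prj : Fin 3 → W → W := ![fun u => (u.1, 0, 0), fun u => (0, u.2.1, 0), fun u => (0, 0, u.2.2)]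

theorem prj_sum (u : W) : ∑ i, prj i u = u := by
  simp [Fin.sum_univ_three, prj]

end Algebra

variable {ι : Type} [Fintype ι] [DecidableEq ι] {F K : Type*} [Field F] [Field K] [Algebra F K]
  [Module K (ι → F)] [IsScalarTower F K (ι → F)]
  {Q : (ι → F) → F} {B : LinearMap.BilinForm F (ι → F)} {e : (ι → F) ≃ₗ[K] K × K × K} {ν : K}
  {L : Subgroup (GL ι F)}

local notation "𝕍" => (ι → F)
local notation "W" => K × K × K

/-- The vector product as a bilinear map over the base. -/
def crL (F : Type*) {K : Type*} [Field F] [Field K] [Algebra F K] (ν : K) :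
    (K × K × K) →ₗ[F] (K × K × K) →ₗ[F] (K × K × K) :=
  LinearMap.mk₂ F (cr ν)
    (fun a b c => by simp only [cr, Prod.fst_add, Prod.snd_add, Prod.mk_add_mk, Prod.mk.injEq]
                     exact ⟨by ring, by ring, by ring⟩)
    (fun k a b => by
      simp only [cr, Prod.ext_iff, Prod.smul_fst, Prod.smul_snd]
      simp only [Algebra.smul_def]
      exact ⟨by ring, by ring, by ring⟩)
    (fun a b c => by simp only [cr, Prod.fst_add, Prod.snd_add, Prod.mk_add_mk, Prod.mk.injEq]
                     exact ⟨by ring, by ring, by ring⟩)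
    (fun k a b => by
      simp only [cr, Prod.ext_iff, Prod.smul_fst, Prod.smul_snd]
      simp only [Algebra.smul_def]
      exact ⟨by ring, by ring, by ring⟩)

/-- The trace of the form as a bilinear map over the base. -/
noncomputable def trh (F : Type*) {K : Type*} [Field F] [Field K] [Algebra F K] (ν : K) :
    (K × K × K) →ₗ[F] (K × K × K) →ₗ[F] F :=
  LinearMap.mk₂ F (fun u v => Algebra.trace F K (hh ν u v))
    (fun a b c => by rw [← map_add]; congr 1; simp [hh]; ring)
    (fun k a b => by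
      rw [← map_smul]; congr 1
      simp only [hh, Prod.smul_fst, Prod.smul_snd]; simp only [Algebra.smul_def]; ring)
    (fun a b c => by rw [← map_add]; congr 1; simp [hh]; ring)
    (fun k a b => by
      rw [← map_smul]; congr 1
      simp only [hh, Prod.smul_fst, Prod.smul_snd]; simp only [Algebra.smul_def]; ring)

/-- The cubic form of an element. -/
noncomputable def cub (e : 𝕍 ≃ₗ[K] W) (ν : K) (X : GL ι F) : W → W → W → F := fun x y z =>
  trh F ν (crL F ν (co e X x) (co e X y)) (co e X z)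

theorem cub_mul (X Y : GL ι F) (x y z : W) :
    cub e ν (X * Y) x y z = cub e ν X (co e Y x) (co e Y y) (co e Y z) := by
  simp [cub, co_mul]

theorem cub_prj (X : GL ι F) (x y z : W) :
    cub e ν X x y z = ∑ i, ∑ j, ∑ k, cub e ν X (prj i x) (prj j y) (prj k z) := by
  have h1 : ∀ i j, ∑ k, cub e ν X (prj i x) (prj j y) (prj k z) = cub e ν X (prj i x) (prj j y) z :=
    fun i j => by simp only [cub]; rw [← map_sum, ← map_sum, prj_sum]
  have h2 : ∀ i, ∑ j, cub e ν X (prj i x) (prj j y) z = cub e ν X (prj i x) y z := fun i => by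
    simp only [cub]
    rw [← LinearMap.sum_apply, ← map_sum, ← map_sum, ← map_sum, prj_sum]
  simp only [h1, h2]
  simp only [cub]
  rw [← LinearMap.sum_apply, ← map_sum, ← LinearMap.sum_apply, ← map_sum, ← map_sum, prj_sum]

variable [Fintype F] [Fintype K]

/-- The automorphism is determined by the element. -/
theorem sigma_eq {Y : GL ι F} {σ σ' : K → K} (h : ∀ k u, co e Y (k • u) = σ k • co e Y u)
    (h' : ∀ k u, co e Y (k • u) = σ' k • co e Y u) (k : K) : σ k = σ' k := by
  have hne : co e Y ((1, 0, 0) : W) ≠ 0 := fun h0 => by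
    simpa using (co e Y).injective (h0.trans (map_zero (co e Y)).symm)
  exact smul_left_injective K hne ((h k _).symm.trans (h' k _))

/-- Semilinear elements of determinant one preserve the cubic form. -/
theorem cub_semi (D : Frame Q B e ν) (hr : finrank F K = 3)
    (hν : ∃ n₀ : F, ν = algebraMap F K n₀) {X : GL ι F} (hX : X ∈ isometryGroup F Q)
    (hdet : X.val.det = 1) (hS : Semi e X) : cub e ν X = cub e ν (1 : GL ι F) := by
  classical
  obtain ⟨σ, hσ, hσh⟩ := hS.sigma D hX
  obtain ⟨n₀, hn₀⟩ := hν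
  set a := co e X ((1, 0, 0) : W) with ha
  set b := co e X ((0, 1, 0) : W) with hb
  set c := co e X ((0, 0, 1) : W) with hc
  let A₀ : W →ₗ[K] W := (LinearMap.fst K K (K × K)).smulRight a +
    (LinearMap.fst K K K ∘ₗ LinearMap.snd K K (K × K)).smulRight b +
    (LinearMap.snd K K K ∘ₗ LinearMap.snd K K (K × K)).smulRight c
  have hA₀ : ∀ u, A₀ u = u.1 • a + u.2.1 • b + u.2.2 • c := fun u => rfl
  have hexp : ∀ u : W, co e X u = A₀ (σ u.1, σ u.2.1, σ u.2.2) := fun u => by
    conv_lhs => rw [show u = u.1 • ((1, 0, 0) : W) + u.2.1 • ((0, 1, 0) : W) +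
      u.2.2 • ((0, 0, 1) : W) by simp, map_add, map_add, hσ, hσ, hσ]
    rw [hA₀]
  set d := det3 a b c with hd
  have hd3 : ∀ u v z : W, det3 (co e X u) (co e X v) (co e X z) = σ (det3 u v z) * d := by
    intro u v z
    rw [hexp, hexp, hexp, hA₀, hA₀, hA₀, det3_comb, ← hd]
    congr 1
    simp [det3]
  have hσν : σ ν = ν := by rw [hn₀, σ.commutes]
  have hd2 : d = 1 ∨ d = -1 := by
    have h1 := det3_gram ν a b c
    simp only [ha, hb, hc, hσh] at h1
    simp [hh] at h1
    rw [← ha, ← hb, ← hc, ← hd, hσν] at h1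
    have h2 : (d - 1) * (d + 1) = 0 := by
      have : (ν : K) * ((d - 1) * (d + 1)) = 0 := by linear_combination h1
      exact (mul_eq_zero.1 this).resolve_left D.ne
    rcases mul_eq_zero.1 h2 with h | h
    · exact Or.inl (sub_eq_zero.1 h)
    · exact Or.inr (eq_neg_of_add_eq_zero_left h)
  -- the determinant over the base
  let S₀ : W ≃ₗ[F] W := σ.toLinearEquiv.prodCongr (σ.toLinearEquiv.prodCongr σ.toLinearEquiv)
  have hσ3 : ∀ k, σ (σ (σ k)) = k := by
    have hc : Fintype.card (K ≃ₐ[F] K) = 3 := by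
      rw [← Nat.card_eq_fintype_card, IsGalois.card_aut_eq_finrank, hr]
    have h := congrArg (fun τ : K ≃ₐ[F] K => (τ : K → K)) (hc ▸ pow_card_eq_one (x := σ))
    intro k
    simpa [pow_succ, pow_zero, AlgEquiv.mul_apply] using congrFun h k
  have hS3 : LinearMap.det (S₀ : W →ₗ[F] W) ^ 3 = 1 := by
    rw [← map_pow]
    convert LinearMap.det_id (A := F) (M := W) using 2
    refine LinearMap.ext fun u => ?_
    simp [pow_succ, pow_zero, S₀, hσ3]
  have hA : LinearMap.det A₀ = d := by
    let φ : W ≃ₗ[K] (Fin 3 → K) :=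
      { toFun := fun u => ![u.1, u.2.1, u.2.2]
        map_add' := fun u v => by funext i; fin_cases i <;> rfl
        map_smul' := fun k u => by funext i; fin_cases i <;> rfl
        invFun := fun f => (f 0, f 1, f 2)
        left_inv := fun u => rfl
        right_inv := fun f => by funext i; fin_cases i <;> rfl }
    have hφ : ∀ u, φ u = ![u.1, u.2.1, u.2.2] := fun u => rfl
    have hφs : ∀ f, φ.symm f = (f 0, f 1, f 2) := fun f => rfl
    rw [← LinearMap.det_conj A₀ φ, ← LinearMap.det_toMatrix', Matrix.det_fin_three]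
    simp [LinearMap.toMatrix'_apply, hφ, hφs, hA₀, hd, det3]
    ring
  have hco : (co e X : W →ₗ[F] W) = (A₀.restrictScalars F) * (S₀ : W →ₗ[F] W) :=
    LinearMap.ext fun u => by simp [hexp, S₀]
  have hdX : LinearMap.det (co e X : W →ₗ[F] W) = 1 := by
    have e1 : (co e X : W →ₗ[F] W) = ((e.restrictScalars F : 𝕍 →ₗ[F] W) ∘ₗ
        (Matrix.toLin' X.val)) ∘ₗ ((e.restrictScalars F).symm : W →ₗ[F] 𝕍) :=
      LinearMap.ext fun u => by simp [co_apply]
    rw [e1, LinearMap.comp_assoc, LinearMap.det_conj, LinearMap.det_toLin', hdet]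
  have hd1 : d = 1 := by
    rw [hco, map_mul, LinearMap.det_restrictScalars, hA] at hdX
    rcases hd2 with h | h
    · exact h
    exfalso
    rw [h, show (-1 : K) = algebraMap F K (-1) by simp, Algebra.norm_algebraMap, hr] at hdX
    have h1 := congrArg (· ^ 3) hdX
    simp only [mul_pow, hS3, mul_one, one_pow] at h1
    exact D.two (by linear_combination -h1)
  funext x y z
  simp only [cub, trh, crL, LinearMap.mk₂_apply, hh_cr D.ne, hd3, hd1, mul_one,
    Algebra.trace_eq_of_algEquiv, co_one]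

/-- An element preserving the cubic form is semilinear. -/
theorem semi_of_cub (D : Frame Q B e ν) {X : GL ι F} (hX : X ∈ isometryGroup F Q)
    (h : cub e ν X = cub e ν (1 : GL ι F)) : Semi e X := by
  have hν := D.ne
  have hcr : ∀ u v, cr ν (co e X u) (co e X v) = co e X (cr ν u v) := fun u v =>
    D.ext (F := F) fun w => by
      obtain ⟨w, rfl⟩ := (co e X).surjective w
      have h1 := congrFun (congrFun (congrFun h u) v) w
      simp only [cub, trh, crL, LinearMap.mk₂_apply, co_one] at h1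
      have hsym : ∀ a b : W, hh ν a b = hh ν b a := fun a b => by simp [hh]; ring
      rw [D.iso hX w (cr ν u v), hsym (co e X w), h1, hsym]
  have hne : ∀ {u : W}, u ≠ 0 → co e X u ≠ 0 := fun hu h0 =>
    hu ((co e X).injective (h0.trans (map_zero (co e X)).symm))
  have hline : ∀ (k : K) u, ∃ k' : K, co e X (k • u) = k' • co e X u := by
    intro k u
    rcases eq_or_ne u 0 with rfl | hu
    · exact ⟨0, by simp⟩
    obtain ⟨k', hk'⟩ := exists_smul_of_cr hν (hne hu) (v := co e X (k • u))
      (by rw [hcr, cr_smul_self, map_zero])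
    exact ⟨k', hk'⟩
  choose f hf using hline
  have hsame : ∀ k u v, cr ν u v ≠ 0 → f k u = f k v := by
    intro k u v huv
    have h0 : cr ν (co e X u) (co e X v) ≠ 0 := by rw [hcr]; exact hne huv
    have h1 := hf k (u + v)
    rw [smul_add, map_add, map_add, hf, hf, smul_add, ← sub_eq_zero, add_sub_add_comm, ← sub_smul,
      ← sub_smul] at h1
    set a := f k u - f k (u + v)
    set b := f k v - f k (u + v)
    have hadd : ∀ p q r : W, cr ν p (q + r) = cr ν p q + cr ν p r := fun p q r =>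
      ((crL F ν) p).map_add q r
    have hb : b = 0 := by
      have h2 := congrArg (cr ν (co e X u)) h1
      rw [hadd, cr_smul_self, zero_add, show cr ν (co e X u) (b • co e X v) =
        b • cr ν (co e X u) (co e X v) by simp [cr, Prod.ext_iff]; refine ⟨?_, ?_, ?_⟩ <;> ring,
        show cr ν (co e X u) (0 : W) = 0 from (crL F ν (co e X u)).map_zero] at h2
      exact (smul_eq_zero.1 h2).resolve_right h0
    have ha : a = 0 := by
      rw [hb, zero_smul, add_zero] at h1
      refine (smul_eq_zero.1 h1).resolve_right fun h2 => h0 ?_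
      rw [h2]
      simp [cr]
    exact (sub_eq_zero.1 ha).trans (sub_eq_zero.1 hb).symm
  intro k
  refine ⟨f k (1, 0, 0), fun u => ?_⟩
  rcases eq_or_ne u 0 with rfl | hu
  · simp
  rw [hf]
  congr 1
  by_cases h1 : cr ν u (1, 0, 0) = 0
  · refine (hsame k u (0, 1, 0) fun h2 => hu ?_).trans (hsame k (0, 1, 0) (1, 0, 0) ?_)
    · simp [cr, hν] at h1 h2
      exact Prod.ext h2.1 (Prod.ext h1.1 h1.2)
    · simp [cr]
  · exact hsame k u _ h1

/-- A conjugate of a unipotent element fixing a semilinear frame is not linear. -/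
theorem Over.not_lin_conj (H : Over Q B e ν L) (hall : ∀ g ∈ L, Pres e g → Semi e g)
    {X : GL ι F} (hX : X ∈ L) (hXS : ¬ Semi e X) {a : K} (ha : a ≠ 0) {U : GL ι F} (hUL : U ∈ L)
    (hU : ∀ u, co e U u = uaMap ν a u) :
    ¬ ∀ (k : K) u, co e (X * U * X⁻¹) (k • u) = k • co e (X * U * X⁻¹) u := by
  intro hσ
  have D := H.frame
  set Y := X * U * X⁻¹ with hY
  have hfix : ∀ x, co e Y (co e X (x, 0, 0)) = co e X (x, 0, 0) := fun x => by
    rw [hY, co_mul, co_mul, co_inv', hU]
    simp [uaMap]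
  have hfix' : ∀ u, co e Y u = u → ∃ x, u = co e X (x, 0, 0) := by
    intro u hu
    obtain ⟨v, rfl⟩ := (co e X).surjective u
    rw [hY, co_mul, co_mul, co_inv', hU] at hu
    have h1 := (co e X).injective hu
    have hz : v.2.2 = 0 := by simpa [uaMap, ha] using congrArg (fun v : W => v.2.1) h1
    have hy : v.2.1 = 0 := by simpa [uaMap, ha, hz, D.ne] using congrArg (fun v : W => v.1) h1
    exact ⟨v.1, congrArg _ (Prod.ext rfl (Prod.ext hy hz))⟩
  -- the image of the axis is a singular line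
  set p := co e X ((1, 0, 0) : W) with hp
  have hline : ∀ x, ∃ k : K, co e X (x, 0, 0) = k • p := by
    have h1 : ∀ k : K, ∃ x, k • p = co e X (x, 0, 0) := fun k =>
      hfix' _ (by rw [hσ, hp, hfix])
    choose f hf using h1
    have hp0 : p ≠ 0 := fun h => by
      simpa using (co e X).injective (h.trans (map_zero (co e X)).symm)
    have hinj : Function.Injective f := fun k k' h =>
      smul_left_injective K hp0 (show k • p = k' • p by rw [hf, hf, h])
    intro x
    obtain ⟨k, rfl⟩ := (Finite.injective_iff_surjective.1 hinj) x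
    exact ⟨k, (hf k).symm⟩
  have hpp : hh ν p p = 0 := trace_ext (F := F) fun k => by
    obtain ⟨x, hx⟩ := hfix' (k • p) (by rw [hσ, hp, hfix])
    rw [show k * hh ν p p = hh ν (k • p) p by simp [hh]; ring, hx, hp, D.iso (H.le hX)]
    simp [hh]
  simp only [hh] at hpp
  rcases eq_or_ne p.2.2 0 with hz | hz
  · have hy : p.2.1 = 0 := by simpa [hz, D.ne] using hpp
    refine hXS (hall X hX fun x => ?_)
    obtain ⟨k, hk⟩ := hline x
    exact ⟨k * p.1, hk.trans (by simp [Prod.ext_iff, hy, hz])⟩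
  · obtain ⟨U', hU'L, hU'⟩ := H.ua (p.2.1 / p.2.2)
    obtain ⟨W', hW'L, hW'⟩ := H.w
    have hl : Semi e (U' * W') := (Mem.semi (fun k u => uaMap_smul _ k u) hU').mul
      (Mem.semi (fun k u => wMap_smul k u) hW')
    have hP : Pres e ((U' * W')⁻¹ * X) := fun x => by
      obtain ⟨k, hk⟩ := hline x
      refine ⟨-(ν * k * p.2.2 / 2), (co e (U' * W')).injective ?_⟩
      rw [co_mul (U' * W')⁻¹ X, co_inv, hk, co_mul, hW', hU']
      have hν := D.ne
      have h2 := D.two'
      have hxe : p.1 = -(ν * p.2.1 ^ 2) / (2 * p.2.2) := by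
        field_simp
        linear_combination hpp
      simp [uaMap, wMap, Prod.ext_iff, hxe]
      refine ⟨?_, ?_, ?_⟩ <;> field_simp
    have := hall _ (L.mul_mem (L.inv_mem (L.mul_mem hU'L hW'L)) hX) hP
    exact hXS (by simpa [mul_assoc] using hl.mul this)

/-- The unipotent elements with a semilinear conjugate lie on one line. -/
theorem Over.stab_line (H : Over Q B e ν L) (hr : finrank F K = 3)
    (hall : ∀ g ∈ L, Pres e g → Semi e g) {X : GL ι F} (hX : X ∈ L) (hXS : ¬ Semi e X)
    {U : K → GL ι F} (hUL : ∀ a, U a ∈ L) (hU : ∀ a u, co e (U a) u = uaMap ν a u) :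
    ∃ a₀ : K, a₀ ≠ 0 ∧ ∀ a, Semi e (X * U a * X⁻¹) → a ∈ Submodule.span F {a₀} := by
  classical
  have D := H.frame
  by_cases hex : ∀ a, Semi e (X * U a * X⁻¹) → a = 0
  · exact ⟨1, one_ne_zero, fun a ha => hex a ha ▸ Submodule.zero_mem _⟩
  push Not at hex
  obtain ⟨a₀, ha₀, ha₀0⟩ := hex
  refine ⟨a₀, ha₀0, fun b hb => ?_⟩
  have hYI : ∀ a, X * U a * X⁻¹ ∈ isometryGroup F Q := fun a =>
    H.le (L.mul_mem (L.mul_mem hX (hUL a)) (L.inv_mem hX))
  have hU0 : U 0 = 1 := co_ext (e := e) fun u => by rw [hU, uaMap_zero, co_one]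
  have hUU : ∀ a b, U a * U b = U (a + b) := fun a b => co_ext (e := e) fun u => by
    rw [co_mul, hU, hU, hU, uaMap_add D.two']
  obtain ⟨σ, hσ, -⟩ := ha₀.sigma D (hYI _)
  obtain ⟨τ, hτ, -⟩ := hb.sigma D (hYI _)
  have hσ1 : σ ≠ 1 := fun h1 => H.not_lin_conj hall hX hXS ha₀0 (hUL _) (hU _) fun k u => by
    rw [hσ, h1]; rfl
  have hpow : ∀ n : ℕ, ∀ k u, co e (X * U (n • a₀) * X⁻¹) (k • u) =
      (σ ^ n) k • co e (X * U (n • a₀) * X⁻¹) u := by
    intro n
    induction n with
    | zero => intro k u; simp [hU0, co_one]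
    | succ n ih =>
      intro k u
      have e1 : X * U ((n + 1) • a₀) * X⁻¹ = X * U a₀ * X⁻¹ * (X * U (n • a₀) * X⁻¹) := by
        rw [succ_nsmul', ← hUU]; group
      rw [e1, co_mul (X * U a₀ * X⁻¹), co_mul (X * U a₀ * X⁻¹), ih, hσ, pow_succ', AlgEquiv.mul_apply]
  haveI : Fact (Nat.Prime 3) := ⟨Nat.prime_three⟩
  have hcard : Nat.card (K ≃ₐ[F] K) = 3 := by rw [IsGalois.card_aut_eq_finrank, hr]
  obtain ⟨n, hn⟩ := (Submonoid.mem_powers_iff _ _).1 (mem_powers_of_prime_card hcard hσ1 (g' := τ⁻¹))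
  have hlin : ∀ k u, co e (X * U (n • a₀ + b) * X⁻¹) (k • u) =
      k • co e (X * U (n • a₀ + b) * X⁻¹) u := fun k u => by
    have e1 : X * U (n • a₀ + b) * X⁻¹ = X * U (n • a₀) * X⁻¹ * (X * U b * X⁻¹) := by
      rw [← hUU]; group
    rw [e1, co_mul (X * U (n • a₀) * X⁻¹), co_mul (X * U (n • a₀) * X⁻¹), hτ, hpow, hn]
    simp
  by_contra hb'
  refine H.not_lin_conj hall hX hXS (a := n • a₀ + b) (fun h0 => hb' ?_) (hUL _) (hU _) hlin
  rw [eq_neg_of_add_eq_zero_right h0]
  exact Submodule.neg_mem _ ((Submodule.span F {a₀}).smul_of_tower_mem n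
    (Submodule.mem_span_singleton_self a₀))

/-- Degrees along a plane of parameters. -/
theorem sum_cub_zero (X : GL ι F) (h3 : 3 ≤ Fintype.card F) (g b₁ b₂ : K) {i j k : Fin 3}
    (hd : (i : ℕ) + j + k ≤ 3) (x y z : W) :
    ∑ c : Fin 2 → F, cub e ν X (uaMap ν (g + c 0 • b₁ + c 1 • b₂) (prj i x))
      (uaMap ν (g + c 0 • b₁ + c 1 • b₂) (prj j y))
      (uaMap ν (g + c 0 • b₁ + c 1 • b₂) (prj k z)) = 0 := by
  let T : W →ₗ[F] W := (co e X : W →ₗ[F] W)
  let A : (Fin 2 → F) → K := fun c => g + c 0 • b₁ + c 1 • b₂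
  have h1 : ∀ l : K →ₗ[F] F, Deg2 (F := F) 1 fun c => l (A c) := fun l =>
    ((((Deg2.const (l g)).mono (Nat.zero_le 1)).add
      (((Deg2.coord 0).mul (Deg2.const (l b₁))).mono le_rfl)).add
      (((Deg2.coord 1).mul (Deg2.const (l b₂))).mono le_rfl)).congr fun c => by
      simp [A, mul_comm]
  have hd1 : DegV2 (F := F) 1 A := h1
  have hu : ∀ (i : Fin 3) (u : W), DegV2 (F := F) (i : ℕ) fun c => T (uaMap ν (A c) (prj i u)) := by
    intro i u l
    have lin : ∀ w : W, ∀ c, (l ∘ₗ T) (A c • w) =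
        (l ∘ₗ T ∘ₗ (LinearMap.toSpanSingleton K W w).restrictScalars F) (A c) := fun w c => rfl
    fin_cases i
    · refine (Deg2.const (l (T (u.1, 0, 0)))).congr fun c => ?_
      simp [prj, uaMap]
    · refine (((Deg2.const (l (T (0, u.2.1, 0)))).mono (Nat.zero_le 1)).add
        (h1 (l ∘ₗ T ∘ₗ (LinearMap.toSpanSingleton K W (-(ν * u.2.1), 0, 0)).restrictScalars F))).congr
        fun c => ?_
      show _ = (l ∘ₗ T) (uaMap ν (A c) (prj 1 u))
      rw [← lin, show uaMap ν (A c) (prj 1 u) = (0, u.2.1, 0) + A c • (-(ν * u.2.1), 0, 0) by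
        simp [prj, uaMap, Prod.ext_iff]; ring, map_add]
      rfl
    · let β₂ : K →ₗ[F] K →ₗ[F] F := (LinearMap.mul F K).compr₂
        (l ∘ₗ T ∘ₗ (LinearMap.toSpanSingleton K W (-(2⁻¹ * ν * u.2.2), 0, 0)).restrictScalars F)
      refine ((((Deg2.const (l (T (0, 0, u.2.2)))).mono (Nat.zero_le 2)).add
        ((h1 (l ∘ₗ T ∘ₗ (LinearMap.toSpanSingleton K W (0, u.2.2, 0)).restrictScalars F)).mono
          one_le_two)).add (hd1.bilin hd1 β₂)).congr fun c => ?_
      show _ = (l ∘ₗ T) (uaMap ν (A c) (prj 2 u))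
      rw [← lin, show β₂ (A c) (A c) = (l ∘ₗ T) ((A c * A c) • (-(2⁻¹ * ν * u.2.2), 0, 0)) from rfl,
        show uaMap ν (A c) (prj 2 u) = (0, 0, u.2.2) + A c • (0, u.2.2, 0) +
          (A c * A c) • (-(2⁻¹ * ν * u.2.2), 0, 0) by
        simp [prj, uaMap, Prod.ext_iff]; ring, map_add, map_add]
      rfl
  have hcr : DegV2 (F := F) ((i : ℕ) + j) fun c =>
      crL F ν (T (uaMap ν (A c) (prj i x))) (T (uaMap ν (A c) (prj j y))) := fun l =>
    (hu i x).bilin (hu j y) ((crL F ν).compr₂ l)
  exact (hcr.bilin (hu k z) (trh F ν)).sum_zero (by omega)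

/-- If the elements preserving the axis are semilinear, all are. -/
theorem Over.all_semi_three (H : Over Q B e ν L) (h3 : 3 ≤ Fintype.card F) (hr : finrank F K = 3)
    (hν : ∃ n₀ : F, ν = algebraMap F K n₀) (hdet : ∀ g ∈ L, g.val.det = 1)
    (hall : ∀ g ∈ L, Pres e g → Semi e g) : ∀ g ∈ L, Semi e g := by
  classical
  have D := H.frame
  choose U hUL hU using H.ua
  set Φ₁ := cub e ν (1 : GL ι F)
  have hsem : ∀ {X : GL ι F}, X ∈ L → Semi e X → cub e ν X = Φ₁ := fun hX h =>
    cub_semi D hr hν (H.le hX) (hdet _ hX) h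
  have hUU : ∀ a b, U a * U b = U (a + b) := fun a b => co_ext (e := e) fun u => by
    rw [co_mul, hU, hU, hU, uaMap_add D.two']
  have hU0 : U 0 = 1 := co_ext (e := e) fun u => by rw [hU, uaMap_zero, co_one]
  have hshift : ∀ Y Z Z' : GL ι F, cub e ν Y = cub e ν Z →
      cub e ν (Y * Z') = cub e ν (Z * Z') := fun Y Z Z' h => by
    funext x y z
    rw [cub_mul, cub_mul, h]
  set O : Finset (W → W → W → F) := (Finset.univ : Finset L).image fun X => cub e ν X.1
  have horb : ∀ s ⊆ O.erase Φ₁,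
      (∀ X ∈ L, cub e ν X ∈ s → ∀ a, cub e ν (X * U a) ∈ s) →
      ∀ (i j k : Fin 3), (i : ℕ) + j + k ≤ 3 →
      ∀ x y z, ∑ f ∈ s, f (prj i x) (prj j y) (prj k z) = 0 := by
    intro s
    induction s using Finset.strongInduction with
    | H s ih =>
      intro hs hcl i j k hd x y z
      rcases s.eq_empty_or_nonempty with rfl | ⟨f, hf⟩
      · simp
      obtain ⟨⟨X, hX⟩, -, rfl⟩ := Finset.mem_image.1 (Finset.mem_of_mem_erase (hs hf))
      have hXS : ¬ Semi e X := fun h => Finset.ne_of_mem_erase (hs hf) (hsem hX h)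
      let Sg : AddSubgroup K :=
        { carrier := {a | cub e ν (X * U a) = cub e ν X}
          zero_mem' := show cub e ν (X * U 0) = _ by rw [hU0, mul_one]
          add_mem' := fun {a b} ha hb => show cub e ν (X * U (a + b)) = _ by
            rw [← hUU, ← mul_assoc, hshift _ _ _ ha]; exact hb
          neg_mem' := fun {a} ha => show cub e ν (X * U (-a)) = _ by
            rw [← hshift _ _ (U (-a)) ha, mul_assoc, hUU, add_neg_cancel, hU0, mul_one] }
      obtain ⟨a₀, ha₀, hline⟩ := H.stab_line hr hall hX hXS hUL hU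
      have hSg : ∀ a ∈ Sg, a ∈ Submodule.span F {a₀} := fun a ha => by
        refine hline a (semi_of_cub D (H.le (L.mul_mem (L.mul_mem hX (hUL a)) (L.inv_mem hX))) ?_)
        rw [hshift _ _ X⁻¹ ha, mul_inv_cancel]
      -- coordinates
      obtain ⟨C, hC⟩ := Submodule.exists_isCompl (Submodule.span F {a₀})
      have hC2 : finrank F C = 2 := by
        have := Submodule.finrank_add_eq_of_isCompl hC
        rw [finrank_span_singleton ha₀, hr] at this
        omega
      let bs := Module.finBasisOfFinrankEq F C hC2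
      set b₁ : K := (bs 0 : K)
      set b₂ : K := (bs 1 : K)
      let C₀ : AddSubgroup F :=
        Sg.comap (LinearMap.toSpanSingleton F K a₀).toAddMonoidHom
      have hCs : ∀ (r : F) (c : Fin 2 → F), r • a₀ + c 0 • b₁ + c 1 • b₂ ∈ Sg → r ∈ C₀ ∧ c = 0 := by
        intro r c h
        have h1 := hSg _ h
        have hcC : c 0 • b₁ + c 1 • b₂ ∈ C := C.add_mem (C.smul_mem _ (bs 0).2) (C.smul_mem _ (bs 1).2)
        have hcs : c 0 • b₁ + c 1 • b₂ ∈ Submodule.span F {a₀} := by
          have := Submodule.sub_mem _ h1 (Submodule.smul_mem _ r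
            (Submodule.mem_span_singleton_self a₀))
          rwa [show r • a₀ + c 0 • b₁ + c 1 • b₂ - r • a₀ = c 0 • b₁ + c 1 • b₂ by abel] at this
        have hc0 : c 0 • b₁ + c 1 • b₂ = 0 :=
          (Submodule.disjoint_def.1 hC.disjoint) _ hcs hcC
        have hc : c = 0 := by
          have h2 := Fintype.linearIndependent_iff.1 bs.linearIndependent c (Subtype.ext (by
            simpa [Fin.sum_univ_two] using hc0))
          exact funext h2
        refine ⟨?_, hc⟩
        rw [hc] at h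
        simpa [C₀] using h
      let g : F ⧸ C₀ → K := fun q => q.out • a₀
      let par : (F ⧸ C₀) × (Fin 2 → F) → K := fun p => g p.1 + p.2 0 • b₁ + p.2 1 • b₂
      have hpinj : Function.Injective fun p => cub e ν (X * U (par p)) := by
        intro p p' hpp
        have h1 := hshift _ _ (U (-par p')) hpp
        rw [mul_assoc, mul_assoc, hUU, hUU, add_neg_cancel, hU0, mul_one] at h1
        have h2 : par p + -par p' ∈ Sg := h1
        have e1 : par p + -par p' = (p.1.out - p'.1.out) • a₀ + (p.2 - p'.2) 0 • b₁ +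
            (p.2 - p'.2) 1 • b₂ := by
          simp [par, g, sub_smul]; abel
        rw [e1] at h2
        obtain ⟨hr', hc'⟩ := hCs _ _ h2
        refine Prod.ext ?_ (sub_eq_zero.1 hc')
        rw [← QuotientAddGroup.out_eq' p.1, ← QuotientAddGroup.out_eq' p'.1]
        exact (QuotientAddGroup.eq_iff_sub_mem).2 hr'
      have hpsurj : ∀ a, ∃ p, cub e ν (X * U (par p)) = cub e ν (X * U a) := by
        intro a
        obtain ⟨u, hu, v, hv, huv⟩ := Submodule.mem_sup.1 (hC.sup_eq_top ▸ Submodule.mem_top :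
          a ∈ Submodule.span F {a₀} ⊔ C)
        obtain ⟨r, rfl⟩ := Submodule.mem_span_singleton.1 hu
        set c := bs.equivFun ⟨v, hv⟩
        have hv' : v = c 0 • b₁ + c 1 • b₂ := by
          have := congrArg Subtype.val (bs.sum_equivFun ⟨v, hv⟩).symm
          rwa [Fin.sum_univ_two] at this
        refine ⟨((r : F ⧸ C₀), c), ?_⟩
        have h1 : par ((r : F ⧸ C₀), c) + -a ∈ Sg := by
          have h2 : (QuotientAddGroup.mk r : F ⧸ C₀).out - r ∈ C₀ :=
            (QuotientAddGroup.eq_iff_sub_mem).1 (QuotientAddGroup.out_eq' _)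
          have e1 : par ((r : F ⧸ C₀), c) + -a =
              ((QuotientAddGroup.mk r : F ⧸ C₀).out - r) • a₀ := by
            simp [par, g, ← huv, hv', sub_smul]; abel
          rw [e1]
          exact h2
        have h3 := hshift _ _ (U a) (show cub e ν (X * U (par ((r : F ⧸ C₀), c) + -a)) = _ from h1)
        rwa [mul_assoc, hUU, neg_add_cancel_right] at h3
      set T := (Finset.univ : Finset ((F ⧸ C₀) × (Fin 2 → F))).image
        fun p => cub e ν (X * U (par p)) with hT
      have hTs : T ⊆ s := fun f' hf' => by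
        obtain ⟨p, -, rfl⟩ := Finset.mem_image.1 hf'
        exact hcl X hX hf _
      have hmem : ∀ a, cub e ν (X * U a) ∈ T := fun a => by
        obtain ⟨p, hp⟩ := hpsurj a
        exact Finset.mem_image.2 ⟨p, Finset.mem_univ _, hp⟩
      have hmem0 : cub e ν X ∈ T := by simpa [hU0] using hmem 0
      have hlt : s \ T ⊂ s := Finset.sdiff_ssubset hTs ⟨_, hmem0⟩
      have h1 := ih _ hlt (Finset.sdiff_subset.trans hs) (fun Z hZ hZm c => by
        obtain ⟨hZs, hZT⟩ := Finset.mem_sdiff.1 hZm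
        refine Finset.mem_sdiff.2 ⟨hcl Z hZ hZs c, fun hm => hZT ?_⟩
        obtain ⟨p, -, ha⟩ := Finset.mem_image.1 hm
        have h := hshift _ _ (U (-c)) ha
        rw [mul_assoc, mul_assoc, hUU, hUU, add_neg_cancel, hU0, mul_one] at h
        exact h ▸ hmem _) i j k hd x y z
      rw [← Finset.sum_sdiff hTs, h1, zero_add, hT, Finset.sum_image hpinj.injOn,
        Fintype.sum_prod_type]
      refine Finset.sum_eq_zero fun q _ => ?_
      simp only [cub_mul, hU, par]
      exact sum_cub_zero X h3 _ b₁ b₂ hd x y z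
  have h1O : Φ₁ ∈ O := Finset.mem_image.2 ⟨1, Finset.mem_univ _, rfl⟩
  -- right translations permute the images
  have htrans : ∀ g ∈ L, ∀ x y z,
      ∑ f ∈ O, f (co e g x) (co e g y) (co e g z) = ∑ f ∈ O, f x y z := fun g hg x y z => by
    refine Finset.sum_bij (fun f _ => fun x y z => f (co e g x) (co e g y) (co e g z))
      (fun f hf => ?_) (fun f _ f' _ h => ?_) (fun f hf => ?_) (fun f _ => rfl)
    · obtain ⟨Y, -, rfl⟩ := Finset.mem_image.1 hf
      exact Finset.mem_image.2 ⟨Y * (⟨g, hg⟩ : L), Finset.mem_univ _, funext fun x => funext fun y =>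
        funext fun z => cub_mul _ _ _ _ _⟩
    · funext x y z
      have := congrFun (congrFun (congrFun h (co e g⁻¹ x)) (co e g⁻¹ y)) (co e g⁻¹ z)
      simpa [co_inv] using this
    · obtain ⟨Y, -, rfl⟩ := Finset.mem_image.1 hf
      refine ⟨_, Finset.mem_image.2 ⟨Y * (⟨g, hg⟩ : L)⁻¹, Finset.mem_univ _, rfl⟩, ?_⟩
      funext x y z
      show cub e ν (Y.1 * g⁻¹) _ _ _ = _
      rw [cub_mul, co_inv', co_inv', co_inv']
  set R : W → W → W → F := fun x y z => ∑ f ∈ O.erase Φ₁, f x y z
  have hlow : ∀ (i j k : Fin 3), (i : ℕ) + j + k ≤ 3 →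
      ∀ x y z, R (prj i x) (prj j y) (prj k z) = 0 :=
    horb _ Finset.Subset.rfl fun X hX hm a => by
      refine Finset.mem_erase.2 ⟨fun h => ?_,
        Finset.mem_image.2 ⟨⟨_, L.mul_mem hX (hUL a)⟩, Finset.mem_univ _, rfl⟩⟩
      have h' := (semi_of_cub D (H.le (L.mul_mem hX (hUL a))) h).mul
        (Mem.semi (fun k u => uaMap_smul _ k u) (hU (-a)))
      rw [mul_assoc, hUU, add_neg_cancel, hU0, mul_one] at h'
      exact Finset.ne_of_mem_erase hm (hsem hX h')
  obtain ⟨J, hJ, hJu⟩ := H.w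
  have hR : ∀ x y z, ∀ (i j k : Fin 3), R (prj i x) (prj j y) (prj k z) = 0 := by
    intro x y z i j k
    by_cases hd : (i : ℕ) + j + k ≤ 3
    · exact hlow i j k hd x y z
    have hrev : ∀ (i : Fin 3) (u : W), co e J (prj i u) = prj (Fin.rev i) (co e J u) := fun i u => by
      fin_cases i <;> simp [hJu, prj, wMap]
    have h1 := htrans J hJ (prj i x) (prj j y) (prj k z)
    rw [← Finset.add_sum_erase O _ h1O, ← Finset.add_sum_erase O _ h1O,
      show Φ₁ (co e J (prj i x)) (co e J (prj j y)) (co e J (prj k z)) =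
        cub e ν J (prj i x) (prj j y) (prj k z) by simp only [Φ₁, ← cub_mul, one_mul],
      hsem hJ (Mem.semi (fun k u => wMap_smul k u) hJu), add_right_inj] at h1
    show ∑ f ∈ O.erase Φ₁, f (prj i x) (prj j y) (prj k z) = 0
    rw [← h1, hrev, hrev, hrev]
    exact hlow _ _ _ (by simp only [Fin.val_rev]; omega) _ _ _
  have hzero : ∀ x y z, ∑ f ∈ O, f x y z = Φ₁ x y z := fun x y z => by
    rw [← Finset.add_sum_erase O _ h1O]
    suffices ∑ f ∈ O.erase Φ₁, f x y z = 0 by rw [this, add_zero]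
    rw [Finset.sum_congr rfl (g := fun f => ∑ i, ∑ j, ∑ k, f (prj i x) (prj j y) (prj k z))
      fun f hf => by
        obtain ⟨Y, -, rfl⟩ := Finset.mem_image.1 (Finset.mem_of_mem_erase hf)
        exact cub_prj _ x y z,
      Finset.sum_comm]
    refine Finset.sum_eq_zero fun i _ => ?_
    rw [Finset.sum_comm]
    refine Finset.sum_eq_zero fun j _ => ?_
    rw [Finset.sum_comm]
    exact Finset.sum_eq_zero fun k _ => hR x y z i j k
  intro g hg
  refine semi_of_cub D (H.le hg) ?_
  funext x y z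
  have h1 := htrans g hg x y z
  rw [hzero, hzero] at h1
  refine Eq.trans ?_ h1
  simp only [Φ₁, ← cub_mul, one_mul]

end Cfsg.Lib.Linear.OrthExtThree
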