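import Cfsg.Agent.Lib.Linear.OrthExtThree.Top
import Cfsg.Agent.Lib.Linear.OrthExtThree.Cubic
import Cfsg.Agent.Lib.Linear.OrthExt.Max

/-!
# The normaliser of an extension field of odd prime degree is maximal in `Ω`, dimension three

The case of a field of odd prime degree over which the space has dimension three.
-/

set_option autoImplicit false
set_option linter.unusedSectionVars false

namespace Cfsg.Lib.Linear.OrthExtThree

open Module
open scoped Matrix commutatorElement
open Cfsg.Lib.Linear.Orth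

section Space

variable {ι : Type} [Fintype ι] [DecidableEq ι] {F K : Type*} [Field F] [Field K] [Algebra F K]
  [Module K (ι → F)] [IsScalarTower F K (ι → F)]
  {Q : (ι → F) → F} {B : LinearMap.BilinForm F (ι → F)}

local notation "𝕍" => (ι → F)
local notation "W" => K × K × K

/-- Coordinates for a form in dimension three. -/
theorem exists_coords [FiniteDimensional K 𝕍] [Finite K] (h : LinearMap.BilinForm K 𝕍)
    (h2 : (2 : K) ≠ 0) (hs : ∀ x y, h x y = h y x) (hn : ∀ x, (∀ y, h x y = 0) → x = 0)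
    (hd : finrank K 𝕍 = 3) :
    ∃ (e : 𝕍 ≃ₗ[K] W) (ν : K), ν ≠ 0 ∧ ∀ x y, h x y = hh ν (e x) (e y) := by
  obtain ⟨p, -, hp0, hpp⟩ := Sing.exists_singular (Q := fun x => 2⁻¹ * h x x) (B := h)
    (fun c v => by simp [mul_assoc, mul_left_comm, sq]) (fun u v => by
      simp only [QuadraticMap.polar, map_add, LinearMap.add_apply, hs v u]
      linear_combination h u v * inv_mul_cancel₀ h2) (⊤ : Submodule K 𝕍)
    (by rw [finrank_top, hd])
  have hp : h p p = 0 := (mul_eq_zero.1 hpp).resolve_left (inv_ne_zero h2)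
  obtain ⟨y, hy⟩ : ∃ y, h p y ≠ 0 := by
    by_contra hc
    push Not at hc
    exact hp0 (hn p hc)
  set z := (h p y)⁻¹ • y with hz
  set f := z - (2⁻¹ * h z z) • p with hf
  have hpz : h p z = 1 := by rw [hz, map_smul, smul_eq_mul, inv_mul_cancel₀ hy]
  have hpf : h p f = 1 := by simp [hf, hp, hpz]
  have hfp : h f p = 1 := by rw [hs, hpf]
  have hff : h f f = 0 := by
    simp only [hf, map_sub, map_smul, LinearMap.sub_apply, LinearMap.smul_apply, hp, hpz, hs z p,
      smul_eq_mul]
    field_simp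
    ring
  set U := LinearMap.ker (h p) ⊓ LinearMap.ker (h f)
  have hU : U ≠ ⊥ := fun he => by
    have h1 := (h p).finrank_range_add_finrank_ker
    have h3 := (h f).finrank_range_add_finrank_ker
    have h4 := Submodule.finrank_le (LinearMap.range (h p))
    have h5 := Submodule.finrank_le (LinearMap.range (h f))
    have h6 := Submodule.finrank_sup_add_finrank_inf_eq (LinearMap.ker (h p)) (LinearMap.ker (h f))
    have h7 := Submodule.finrank_le (LinearMap.ker (h p) ⊔ LinearMap.ker (h f))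
    rw [finrank_self] at h4 h5
    rw [show LinearMap.ker (h p) ⊓ LinearMap.ker (h f) = ⊥ from he, finrank_bot] at h6
    omega
  obtain ⟨n, hnU, hnn⟩ : ∃ n ∈ U, h n n ≠ 0 := by
    by_contra hc
    push Not at hc
    obtain ⟨a, ha, ha0⟩ := Submodule.exists_mem_ne_zero_of_ne_bot hU
    obtain ⟨hpa, hfa⟩ := ha
    refine ha0 (hn a fun x => ?_)
    set w := x - h f x • p - h p x • f with hw
    have hwU : w ∈ U := ⟨by simp [hw, hp, hpf], by simp [hw, hff, hfp]⟩
    have h1 := hc _ (U.add_mem ⟨hpa, hfa⟩ hwU)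
    simp only [map_add, LinearMap.add_apply, hc a ⟨hpa, hfa⟩, hc w hwU, hs w a] at h1
    have h3 : h a w = 0 := (mul_eq_zero.1 (show (2 : K) * h a w = 0 by
      linear_combination h1)).resolve_left h2
    simpa [hw, hs a p, LinearMap.mem_ker.1 hpa, hs a f, LinearMap.mem_ker.1 hfa] using h3
  obtain ⟨hpn, hfn⟩ := hnU
  rw [SetLike.mem_coe, LinearMap.mem_ker] at hpn hfn
  let φ : 𝕍 →ₗ[K] W := (h f).prod (((h n n)⁻¹ • h n).prod (h p))
  have hφ : ∀ a b c, φ (a • p + b • n + c • f) = (a, b, c) := fun a b c => by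
    simp [φ, hp, hpf, hfp, hff, hpn, hfn, hs n p, hs n f, Prod.ext_iff]
    field_simp
  have hφs : Function.Surjective φ := fun u => ⟨_, hφ u.1 u.2.1 u.2.2⟩
  have hφb : Function.Bijective φ :=
    ⟨(LinearMap.injective_iff_surjective_of_finrank_eq_finrank (by
      rw [hd, Module.finrank_prod, Module.finrank_prod, finrank_self])).2 hφs, hφs⟩
  refine ⟨LinearEquiv.ofBijective φ hφb, h n n, hnn, fun x y => ?_⟩
  obtain ⟨a, b, c, rfl⟩ : ∃ a b c, a • p + b • n + c • f = x :=
    ⟨_, _, _, hφb.1 (hφ (φ x).1 (φ x).2.1 (φ x).2.2)⟩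
  show _ = hh _ (φ (a • p + b • n + c • f)) (φ y)
  rw [hφ]
  simp [φ, hh]
  field_simp
  ring

/-- An element of a linear isometry. -/
theorem Frame.exists_gl {e : 𝕍 ≃ₗ[K] W} {ν : K} (D : Frame Q B e ν) (f : W ≃ₗ[K] W)
    (hf : ∀ u v, hh ν (f u) (f v) = hh ν u v) :
    ∃ X ∈ isometryGroup F Q, ∀ u, co e X u = f u := by
  refine ⟨(Symp.glEquiv ι F).symm ((e.trans (f.trans e.symm)).restrictScalars F), ?_, ?_⟩
  all_goals
    have hgl : ∀ x, ((Symp.glEquiv ι F).symm ((e.trans (f.trans e.symm)).restrictScalars F)).val *ᵥ x =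
        e.symm (f (e x)) := fun x => by
      rw [← Symp.glEquiv_apply]
      show (Symp.glEquiv ι F) ((Symp.glEquiv ι F).symm _) x = _
      rw [MulEquiv.apply_symm_apply]
      rfl
  · refine mem_iso.2 fun x => ?_
    have h1 : B (e.symm (f (e x))) (e.symm (f (e x))) = B x x := by
      rw [D.tr, D.tr, e.apply_symm_apply, hf]
    rw [D.space.self, D.space.self] at h1
    rw [hgl]
    exact mul_left_cancel₀ D.two h1
  · intro u
    rw [co_apply, hgl, e.apply_symm_apply, e.apply_symm_apply]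

/-- The sign change. -/
def flipEquiv : W ≃ₗ[K] W :=
  (LinearEquiv.neg K).prodCongr ((LinearEquiv.refl K K).prodCongr (LinearEquiv.neg K))

/-- The unipotent element as a linear automorphism. -/
def uaEquiv (h2 : (2 : K) ≠ 0) (ν a : K) : W ≃ₗ[K] W where
  toFun := uaMap ν a
  map_add' u v := by
    simp only [uaMap, Prod.fst_add, Prod.snd_add, Prod.mk_add_mk, Prod.mk.injEq, and_true]
    refine ⟨?_, ?_⟩ <;> ring
  map_smul' k u := uaMap_smul a k u
  invFun := uaMap ν (-a)
  left_inv u := by rw [uaMap_add h2, neg_add_cancel, uaMap_zero]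
  right_inv u := by rw [uaMap_add h2, add_neg_cancel, uaMap_zero]

/-- Exchanging the outer coordinates. -/
def revEquiv : W ≃ₗ[K] W where
  toFun u := (u.2.2, u.2.1, u.1)
  map_add' _ _ := rfl
  map_smul' _ _ := rfl
  invFun u := (u.2.2, u.2.1, u.1)
  left_inv _ := rfl
  right_inv _ := rfl

theorem hh_uaMap (h2 : (2 : K) ≠ 0) (ν a : K) (u v : W) :
    hh ν (uaMap ν a u) (uaMap ν a v) = hh ν u v := by
  simp only [hh, uaMap]
  field_simp
  ring

/-- The unipotent elements are commutators. -/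
theorem Frame.ua_comm {e : 𝕍 ≃ₗ[K] W} {ν : K} (D : Frame Q B e ν) (a : K) :
    (∃ X ∈ ⁅isometryGroup F Q, isometryGroup F Q⁆, ∀ u, co e X u = uaMap ν a u) ∧
      ∃ X ∈ ⁅isometryGroup F Q, isometryGroup F Q⁆, ∀ u, co e X u = ufMap ν a u := by
  have h2 := D.two'
  have hT : ∀ u v : W, hh ν (flipEquiv u) (flipEquiv v) = hh ν u v := fun u v => by
    simp [flipEquiv, hh]
  obtain ⟨T, hT, hTu⟩ := D.exists_gl flipEquiv hT
  constructor
  · obtain ⟨U, hU, hUu⟩ := D.exists_gl (uaEquiv h2 ν (-(a / 2))) (hh_uaMap h2 ν _)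
    refine ⟨⁅T, U⁆, Subgroup.commutator_mem_commutator hT hU, fun u => ?_⟩
    obtain ⟨v, rfl⟩ := (co e (U * T)).surjective u
    rw [← co_mul, show ⁅T, U⁆ * (U * T) = T * U by rw [commutatorElement_def]; group, co_mul,
      co_mul, hTu, hUu, hTu, hUu]
    simp only [flipEquiv, uaEquiv, uaMap, LinearEquiv.coe_mk, LinearMap.coe_mk, AddHom.coe_mk,
      LinearEquiv.prodCongr_apply, LinearEquiv.neg_apply, LinearEquiv.refl_apply, Prod.mk.injEq]
    refine ⟨?_, ?_, trivial⟩ <;> field_simp <;> ring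
  · obtain ⟨U, hU, hUu⟩ := D.exists_gl (revEquiv.trans ((uaEquiv h2 ν (-(a / 2))).trans revEquiv))
      (fun u v => by
        have := hh_uaMap h2 ν (-(a / 2)) (revEquiv u) (revEquiv v)
        simp only [hh, revEquiv, uaEquiv, LinearEquiv.trans_apply, LinearEquiv.coe_mk,
          LinearMap.coe_mk, AddHom.coe_mk] at this ⊢
        linear_combination this)
    refine ⟨⁅T, U⁆, Subgroup.commutator_mem_commutator hT hU, fun u => ?_⟩
    obtain ⟨v, rfl⟩ := (co e (U * T)).surjective u
    rw [← co_mul, show ⁅T, U⁆ * (U * T) = T * U by rw [commutatorElement_def]; group, co_mul,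
      co_mul, hTu, hUu, hTu, hUu]
    simp only [flipEquiv, revEquiv, uaEquiv, uaMap, ufMap, LinearEquiv.trans_apply,
      LinearEquiv.coe_mk, LinearMap.coe_mk, AddHom.coe_mk, LinearEquiv.prodCongr_apply,
      LinearEquiv.neg_apply, LinearEquiv.refl_apply, Prod.mk.injEq]
    refine ⟨trivial, ?_, ?_⟩ <;> field_simp <;> ring

/-- In degree three the middle coefficient can be taken in the base field. -/
theorem Frame.exists_base [Fintype F] [Fintype K] {e : 𝕍 ≃ₗ[K] W} {ν : K} (D : Frame Q B e ν)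
    (hr : finrank F K = 3) (hq : Odd (Fintype.card F)) :
    ∃ (e' : 𝕍 ≃ₗ[K] W) (ν' : K), Frame Q B e' ν' ∧ ∃ n₀ : F, ν' = algebraMap F K n₀ := by
  obtain ⟨k, hk⟩ := hq
  set q := Fintype.card F with hq'
  set s := ν ^ (1 + q * (k + 1)) with hs
  have hs0 : s ≠ 0 := pow_ne_zero _ D.ne
  have hn : s * s = ν * algebraMap F K (Algebra.norm F ν) := by
    rw [FiniteField.algebraMap_norm_eq_pow_sum, Nat.card_eq_fintype_card, ← hq', hr,
      Finset.sum_range_succ, Finset.sum_range_succ, Finset.sum_range_succ, Finset.sum_range_zero,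
      hs, ← pow_add, ← pow_succ']
    congr 1
    rw [hk]
    ring
  have hn0 : algebraMap F K (Algebra.norm F ν) ≠ 0 := fun h => by
    rw [h, mul_zero] at hn
    exact mul_ne_zero hs0 hs0 hn
  refine ⟨e.trans ((LinearEquiv.refl K K).prodCongr
    ((LinearEquiv.smulOfNeZero K K s hs0).prodCongr (LinearEquiv.refl K K))), ν / (s * s),
    ⟨D.space, D.two, div_ne_zero D.ne (mul_ne_zero hs0 hs0), fun x y => ?_⟩,
    (Algebra.norm F ν)⁻¹, ?_⟩
  · rw [D.tr]
    congr 1
    simp [hh]
    field_simp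
  · rw [map_inv₀, hn]
    field_simp [D.ne]

end Space

variable {ι : Type} [Fintype ι] [DecidableEq ι] {F : Type*} [Field F] [Fintype F]

local notation "M" => Matrix ι ι F
local notation "𝕍" => (ι → F)

set_option synthInstance.maxHeartbeats 400000 in
set_option maxHeartbeats 3200000 in
/-- The normaliser of the field is maximal in `Ω`. -/
theorem maximal {Q : 𝕍 → F} {B : LinearMap.BilinForm F 𝕍} (C : Space Q B) (h2 : (2 : F) ≠ 0)
    {r : ℕ} (hr : r.Prime) (h3r : 3 ≤ r) (K : Subalgebra F M) (hK : Cfsg.Geo.IsFieldSubalgebra r K)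
    (hsa : Cfsg.Geo.IsSelfAdjointFor (QuadraticMap.polar Q) K) (hd : Fintype.card ι = 3 * r) :
    Cfsg.Geo.IsMaximalIn (Cfsg.Geo.omegaGL Q) (Cfsg.Geo.subalgebraNormalizer K ⊓ Cfsg.Geo.omegaGL Q) := by
  classical
  have hι : 5 ≤ Fintype.card ι := by omega
  have hne : Nonempty ι := Fintype.card_pos_iff.1 (by omega)
  letI : Field K := (OrthExt.isField_of K hne hK.comm hK.inv).toField
  letI : Module K 𝕍 := OrthExt.moduleK K
  haveI : IsScalarTower F K 𝕍 :=
    ⟨fun c k v => show (c • (k : M)) *ᵥ v = c • ((k : M) *ᵥ v) from Matrix.smul_mulVec c _ v⟩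
  letI : Fintype K := Fintype.ofFinite K
  haveI : FiniteDimensional F K := inferInstance
  haveI : FiniteDimensional K 𝕍 := Module.Finite.of_restrictScalars_finite F K _
  have hrK : finrank F K = r := hK.finrank_eq
  have hdim : finrank K 𝕍 = 3 := by
    have h := Module.finrank_mul_finrank F K 𝕍
    rw [hrK, Module.finrank_fintype_fun_eq_card, hd, mul_comm 3] at h
    exact Nat.eq_of_mul_eq_mul_left hr.pos h
  have h2K : (2 : K) ≠ 0 := by
    rw [← map_ofNat (algebraMap F K) 2]
    exact fun h => h2 ((algebraMap F K).injective (by rw [h, map_zero]))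
  have hq : 3 ≤ Fintype.card F := by
    have h1 : 2 ≤ Fintype.card F := Fintype.one_lt_card
    by_contra hlt
    refine h2 ?_
    have h3 := Nat.cast_card_eq_zero F
    rwa [show Fintype.card F = 2 by omega, Nat.cast_ofNat] at h3
  have hadj : ∀ (c : K) (x y : 𝕍), B (c • x) y = B x (c • y) := fun c x y => by
    rw [← C.polar, ← C.polar]
    exact hsa _ c.2 x y
  -- the form over the extension
  let φ : 𝕍 → 𝕍 → Module.Dual F K := fun x y =>
    (B.flip y) ∘ₗ (LinearMap.toSpanSingleton K 𝕍 x).restrictScalars F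
  have hex : ∀ x y, ∃ a : K, ∀ k : K, Algebra.trace F K (k * a) = B (k • x) y := fun x y => by
    refine ⟨((Algebra.traceForm F K).toDual (traceForm_nondegenerate F K)).symm (φ x y), fun k => ?_⟩
    have := LinearMap.BilinForm.apply_toDual_symm_apply (hB := traceForm_nondegenerate F K) (φ x y) k
    rw [Algebra.traceForm_apply, mul_comm] at this
    exact this
  choose hf hfs using hex
  let h : LinearMap.BilinForm K 𝕍 := LinearMap.mk₂ K hf
    (fun x x' y => trace_ext (F := F) fun k => by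
      simp only [hfs, mul_add, smul_add, map_add, LinearMap.add_apply])
    (fun c x y => trace_ext (F := F) fun k => by
      simp only [smul_eq_mul, ← mul_assoc, hfs, mul_smul])
    (fun x y y' => trace_ext (F := F) fun k => by simp only [hfs, mul_add, map_add])
    (fun c x y => trace_ext (F := F) fun k => by
      simp only [smul_eq_mul, ← mul_assoc, hfs]
      rw [← hadj, smul_smul, mul_comm c])
  have hhf : ∀ x y, h x y = hf x y := fun x y => rfl
  have htr : ∀ x y, B x y = Algebra.trace F K (h x y) := fun x y => by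
    rw [hhf, ← one_mul (hf x y), hfs, one_smul]
  obtain ⟨e₀, ν₀, hν₀, he⟩ := exists_coords h h2K
    (fun x y => trace_ext (F := F) fun k => by rw [hhf, hhf, hfs, hfs, hadj, C.symm])
    (fun x hx => C.nondeg' fun y => by rw [htr, hx, map_zero]) hdim
  have D₀ : Frame Q B e₀ ν₀ := ⟨C, h2, hν₀, fun x y => by rw [htr, he]⟩
  have hodd : Odd (Fintype.card F) := Nat.odd_iff.2 (FiniteField.odd_card_of_char_ne_two fun hc =>
    h2 (by
      have h' := CharP.cast_eq_zero F (ringChar F)
      rw [hc] at h'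
      exact_mod_cast h'))
  obtain ⟨e, ν, D, hbase⟩ : ∃ (e : 𝕍 ≃ₗ[K] K × K × K) (ν : K), Frame Q B e ν ∧
      (r = 3 → ∃ n₀ : F, ν = algebraMap F K n₀) := by
    by_cases h3 : r = 3
    · obtain ⟨e, ν, D, hb⟩ := D₀.exists_base (hrK.trans h3) hodd
      exact ⟨e, ν, D, fun _ => hb⟩
    · exact ⟨e₀, ν₀, D₀, fun h => absurd h h3⟩
  have hν := D.ne
  have hactk : ∀ (g : GL ι F) (k : K) (v : 𝕍),
      g.val *ᵥ (k • v) = ((g : M) * (k : M) * ((g⁻¹ : GL ι F) : M)) *ᵥ (g.val *ᵥ v) := fun g k v => by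
    show (g : M) *ᵥ ((k : M) *ᵥ v) = _
    rw [Matrix.mulVec_mulVec, Matrix.mulVec_mulVec, mul_assoc _ _ (g : M), ← Units.val_mul,
      inv_mul_cancel, Units.val_one, mul_one]
  have hnorm : ∀ g : GL ι F, g ∈ Cfsg.Geo.subalgebraNormalizer K ↔ Semi e g := by
    intro g
    constructor
    · intro hg k
      refine ⟨⟨_, (hg k).1 k.2⟩, fun u => ?_⟩
      rw [co_apply, co_apply, map_smul, hactk, ← map_smul]
      rfl
    · intro hS
      have hin : ∀ k ∈ K, (g : M) * k * ((g⁻¹ : GL ι F) : M) ∈ K := fun k hk => by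
        obtain ⟨k', hk'⟩ := hS ⟨k, hk⟩
        suffices heq : (g : M) * k * ((g⁻¹ : GL ι F) : M) = (k' : M) by rw [heq]; exact k'.2
        refine mat_ext fun x => ?_
        have h1 := hk' (e ((g⁻¹ : GL ι F).val *ᵥ x))
        rw [co_apply, co_apply, ← map_smul e, e.symm_apply_apply, e.symm_apply_apply, hactk,
          act_inv, ← map_smul e] at h1
        exact e.injective h1
      intro k
      refine ⟨hin k, fun hk => ?_⟩
      let Φ : K → K := fun a => ⟨_, hin a a.2⟩
      have hΦ : Function.Injective Φ := fun a b h => Subtype.ext (by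
        have h' : (g : M) * (a : M) * ((g⁻¹ : GL ι F) : M) =
          (g : M) * (b : M) * ((g⁻¹ : GL ι F) : M) := congrArg Subtype.val h
        exact (Units.mul_right_inj g).1 ((Units.mul_left_inj g⁻¹).1 h'))
      obtain ⟨a, ha⟩ := Finite.surjective_of_injective hΦ ⟨_, hk⟩
      have h' : (g : M) * (a : M) * ((g⁻¹ : GL ι F) : M) =
        (g : M) * k * ((g⁻¹ : GL ι F) : M) := congrArg Subtype.val ha
      have : (a : M) = k := (Units.mul_right_inj g).1 ((Units.mul_left_inj g⁻¹).1 h')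
      exact this ▸ a.2
  have homega : Cfsg.Geo.omegaGL Q = ⁅isometryGroup F Q, isometryGroup F Q⁆ := by
    rw [Cfsg.Geo.omegaGL, Subgroup.map_subtype_commutator]
  have hua : ∀ a, Mem e (Cfsg.Geo.subalgebraNormalizer K ⊓ Cfsg.Geo.omegaGL Q) (uaMap ν a) ∧
      Mem e (Cfsg.Geo.subalgebraNormalizer K ⊓ Cfsg.Geo.omegaGL Q) (ufMap ν a) := by
    intro a
    obtain ⟨⟨X, hX, hXu⟩, ⟨Y, hY, hYu⟩⟩ := D.ua_comm a
    refine ⟨⟨X, ⟨(hnorm X).2 (Mem.semi (fun k u => uaMap_smul a k u) hXu), homega ▸ hX⟩, hXu⟩,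
      ⟨Y, ⟨(hnorm Y).2 (Mem.semi (fun k u => ?_) hYu), homega ▸ hY⟩, hYu⟩⟩
    simp only [ufMap, Prod.smul_fst, Prod.smul_snd, Prod.smul_mk, smul_eq_mul, Prod.mk.injEq]
    refine ⟨trivial, ?_, ?_⟩ <;> ring
  refine ⟨lt_of_le_of_ne inf_le_right fun heq => ?_, fun L hL hL' => ?_⟩
  · -- a Siegel element which is not semilinear
    obtain ⟨δ, hδ, hδ0⟩ := (Submodule.ne_bot_iff _).1
      (show LinearMap.ker (Algebra.trace F K) ≠ ⊥ from fun e0 => by
        have h1 := (Algebra.trace F K).finrank_range_add_finrank_ker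
        rw [e0, finrank_bot, LinearMap.range_eq_top.2 (Algebra.trace_surjective F K), finrank_top,
          finrank_self, hrK] at h1
        omega)
    rw [LinearMap.mem_ker] at hδ
    set v := e.symm (1, 0, 0) with hv
    set y := e.symm (0, 0, δ) with hy
    have hQv : Q v = 0 := D.Q_zero (by simp [hv, hh])
    have hQy : Q y = 0 := D.Q_zero (by simp [hy, hh])
    have hvy : B v y = 0 := by rw [D.tr]; simpa [hv, hy, hh] using hδ
    set g := sGL Q B v y
    have hg : g ∈ Cfsg.Geo.omegaGL Q := homega ▸ sGL_mem_comm C hι hQv hvy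
    rw [← heq] at hg
    have hgact : ∀ x, g.val *ᵥ x = x + B v x • y - B y x • v := fun x => by
      rw [sGL_act C hQv hvy, hQy, zero_mul, add_zero]
    have hS := (hnorm g).1 hg.1
    refine hδ0 (trace_ext (F := F) fun k => ?_)
    obtain ⟨k', hk'⟩ := hS k
    have h1 := hk' (0, 1, 0)
    have h3 := hk' (1, 0, 0)
    simp only [co_apply, hgact, D.tr, e.apply_symm_apply, map_sub, hv, hy, hh,
      Prod.smul_mk, smul_eq_mul, mul_zero, mul_one, zero_mul, add_zero, map_zero, zero_smul,
      zero_add, sub_zero, hδ, Prod.mk.injEq, and_true, true_and] at h1 h3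
    rw [mul_zero, map_zero, mul_comm k δ]
    rw [← h1] at h3
    have h4 := sub_eq_self.1 h3
    rw [← algebraMap_smul K, e.map_smul] at h4
    simpa using h4
  · by_cases hnot : L ≤ Cfsg.Geo.subalgebraNormalizer K
    · exact Or.inl (le_antisymm (le_inf hnot hL') hL)
    right
    refine le_antisymm hL' ?_
    have hLiso : L ≤ isometryGroup F Q := hL'.trans (by
      rw [homega]
      exact Subgroup.commutator_le_self _)
    have H : Over Q B e ν L := by
      refine ⟨D, hLiso, fun a => ?_, fun a => ?_⟩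
      · obtain ⟨X, hX, hXu⟩ := (hua a).1
        exact ⟨X, hL hX, hXu⟩
      · obtain ⟨X, hX, hXu⟩ := (hua a).2
        exact ⟨X, hL hX, hXu⟩
    obtain ⟨g, hg, hP, hgS⟩ : ∃ g ∈ L, Pres e g ∧ ¬ Semi e g := by
      by_contra hc
      push Not at hc
      refine hnot fun g hg => (hnorm g).2 ?_
      by_cases h3 : r = 3
      · refine H.all_semi_three hq (hrK.trans h3) (hbase h3) (fun x hx => ?_) hc g hg
        obtain ⟨y, hy, rfl⟩ := hL' hx
        have h := Abelianization.commutator_subset_ker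
          ((Matrix.GeneralLinearGroup.det (n := ι) (R := F)).comp (isometryGroup F Q).subtype) hy
        exact congrArg Units.val (MonoidHom.mem_ker.1 h)
      · have h4 : r ≠ 4 := fun h => absurd (h ▸ hr) (by norm_num)
        exact H.all_semi hq (hrK ▸ hr) (by omega) hc g hg
    rw [omegaGL_eq C hι]
    exact H.root_top hq (hrK ▸ hr) (by omega) hg hP hgS

end Cfsg.Lib.Linear.OrthExtThree
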