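import Cfsg.Agent.Lib.Linear.OrthExtThree.Basic

/-!
# An element fixing the axis and not semilinear

If every element of the group which preserves the singular axis is semilinear, so is every element:
the sum of the images of a form of degree four is invariant.
-/

set_option autoImplicit false
set_option linter.unusedSectionVars false

namespace Cfsg.Lib.Linear.OrthExtThree

open Module
open scoped Matrix
open Cfsg.Lib.Linear.Orth

section Degree

variable {F K : Type*} [Field F] [Field K] [Algebra F K] [FiniteDimensional F K]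
  {M M' M'' : Type*} [AddCommGroup M] [Module F M] [AddCommGroup M'] [Module F M']
  [AddCommGroup M''] [Module F M'']

/-- Polynomial of bounded degree in the coordinates. -/
def Deg (n : ℕ) (f : K → F) : Prop :=
  ∃ P : MvPolynomial (Fin (finrank F K)) F, P.totalDegree ≤ n ∧
    ∀ a, f a = MvPolynomial.eval ((Module.finBasis F K).equivFun a) P

theorem Deg.congr {n : ℕ} {f g : K → F} (hf : Deg n f) (h : ∀ a, f a = g a) : Deg n g := by
  obtain ⟨P, hP, hfP⟩ := hf
  exact ⟨P, hP, fun a => (h a).symm.trans (hfP a)⟩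

theorem Deg.mono {m n : ℕ} {f : K → F} (hf : Deg m f) (h : m ≤ n) : Deg n f := by
  obtain ⟨P, hP, hfP⟩ := hf
  exact ⟨P, hP.trans h, hfP⟩

theorem Deg.const (c : F) : Deg (F := F) (K := K) 0 fun _ => c :=
  ⟨MvPolynomial.C c, by simp, fun a => by simp⟩

theorem Deg.lin (l : K →ₗ[F] F) : Deg 1 fun a => l a := by
  refine ⟨∑ i, MvPolynomial.C (l (Module.finBasis F K i)) * MvPolynomial.X i,
    MvPolynomial.totalDegree_finsetSum_le fun i _ => ?_, fun a => ?_⟩
  · refine (MvPolynomial.totalDegree_mul _ _).trans ?_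
    rw [MvPolynomial.totalDegree_C, MvPolynomial.totalDegree_X]
  · show l a = _
    conv_lhs => rw [← (Module.finBasis F K).sum_repr a, map_sum]
    simp [mul_comm]

theorem Deg.add {n : ℕ} {f g : K → F} (hf : Deg n f) (hg : Deg n g) : Deg n fun a => f a + g a := by
  obtain ⟨P, hP, hfP⟩ := hf
  obtain ⟨R, hR, hgR⟩ := hg
  exact ⟨P + R, (MvPolynomial.totalDegree_add _ _).trans (max_le hP hR), fun a => by simp [hfP, hgR]⟩

theorem Deg.mul {m n : ℕ} {f g : K → F} (hf : Deg m f) (hg : Deg n g) :
    Deg (m + n) fun a => f a * g a := by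
  obtain ⟨P, hP, hfP⟩ := hf
  obtain ⟨R, hR, hgR⟩ := hg
  exact ⟨P * R, (MvPolynomial.totalDegree_mul _ _).trans (add_le_add hP hR),
    fun a => by simp [hfP, hgR]⟩

theorem Deg.sum {n : ℕ} {S : Type*} (s : Finset S) {f : S → K → F} (hf : ∀ i ∈ s, Deg n (f i)) :
    Deg n fun a => ∑ i ∈ s, f i a := by
  classical
  induction s using Finset.induction_on with
  | empty => exact ((Deg.const 0).mono (Nat.zero_le n)).congr fun a => by simp
  | insert i s hi ih =>
    refine ((hf i (Finset.mem_insert_self i s)).add
      (ih fun j hj => hf j (Finset.mem_insert_of_mem hj))).congr fun a => ?_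
    rw [Finset.sum_insert hi]

theorem Deg.sum_zero [Fintype F] [Fintype K] {n : ℕ} {f : K → F} (hf : Deg n f)
    (hn : n < (Fintype.card F - 1) * finrank F K) : ∑ a, f a = 0 := by
  classical
  obtain ⟨P, hP, hfP⟩ := hf
  rw [Fintype.sum_congr _ _ hfP]
  refine (Equiv.sum_comp (Module.finBasis F K).equivFun.toEquiv
    fun x => MvPolynomial.eval x P).trans ?_
  exact MvPolynomial.sum_eval_eq_zero P (by rw [Fintype.card_fin]; omega)

/-- Vector valued version. -/
def DegV (n : ℕ) (f : K → M) : Prop := ∀ l : M →ₗ[F] F, Deg n fun a => l (f a)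

theorem DegV.bilin [FiniteDimensional F M] [FiniteDimensional F M'] {m n : ℕ} {f : K → M}
    {g : K → M'} (hf : DegV (F := F) m f) (hg : DegV (F := F) n g) (β : M →ₗ[F] M' →ₗ[F] M'') :
    DegV (F := F) (m + n) fun a => β (f a) (g a) := by
  intro l
  let b := Module.finBasis F M
  let b' := Module.finBasis F M'
  refine (Deg.sum Finset.univ fun i (_ : i ∈ Finset.univ) => Deg.sum Finset.univ fun j
    (_ : j ∈ Finset.univ) => ((Deg.const (l (β (b i) (b' j)))).mul
      ((hf (b.coord i)).mul (hg (b'.coord j)))).mono (Nat.zero_add _).le).congr fun a => ?_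
  show _ = l (β (f a) (g a))
  conv_rhs => rw [← b.sum_repr (f a), ← b'.sum_repr (g a)]
  simp only [map_sum, map_smul, LinearMap.sum_apply, LinearMap.smul_apply, Finset.smul_sum,
    smul_smul, smul_eq_mul, Basis.coord_apply]
  conv_rhs => rw [Finset.sum_comm]
  exact Finset.sum_congr rfl fun i _ => Finset.sum_congr rfl fun j _ => by ring

end Degree

variable {ι : Type} [Fintype ι] [DecidableEq ι] {F K : Type*} [Field F] [Field K] [Algebra F K]
  [Module K (ι → F)] [IsScalarTower F K (ι → F)]
  {Q : (ι → F) → F} {B : LinearMap.BilinForm F (ι → F)} {e : (ι → F) ≃ₗ[K] K × K × K} {ν : K}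
  {L : Subgroup (GL ι F)}

local notation "𝕍" => (ι → F)
local notation "W" => K × K × K

variable [Fintype F] [Fintype K]

/-- The field automorphism of a semilinear isometry. -/
theorem Semi.sigma (D : Frame Q B e ν) {X : GL ι F} (hX : X ∈ isometryGroup F Q) (hS : Semi e X) :
    ∃ σ : K ≃ₐ[F] K, (∀ k u, co e X (k • u) = σ k • co e X u) ∧
      ∀ u v, hh ν (co e X u) (co e X v) = σ (hh ν u v) := by
  choose f hf using hS
  have hne : co e X ((1, 0, 0) : W) ≠ 0 := fun h => by
    simpa using (co e X).injective (h.trans (map_zero (co e X)).symm)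
  have huniq : ∀ k k', co e X (k • ((1, 0, 0) : W)) = k' • co e X (1, 0, 0) → f k = k' :=
    fun k k' h => smul_left_injective K hne ((hf k _).symm.trans h)
  let φ : K →ₐ[F] K :=
    { toFun := f
      map_one' := huniq 1 1 (by simp)
      map_mul' := fun a b => huniq _ _ (by rw [mul_smul, hf a, hf b, mul_smul])
      map_zero' := huniq 0 0 (by simp)
      map_add' := fun a b => huniq _ _ (by rw [add_smul, map_add, hf a, hf b, add_smul])
      commutes' := fun c => huniq _ _ (by rw [algebraMap_smul, map_smul, algebraMap_smul]) }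
  let σ := AlgEquiv.ofBijective φ (Finite.injective_iff_bijective.1 φ.toRingHom.injective)
  have h1 : ∀ k u, co e X (k • u) = σ k • co e X u := fun k u => hf k u
  refine ⟨σ, h1, fun u v => trace_ext (F := F) fun k => ?_⟩
  obtain ⟨k, rfl⟩ := σ.surjective k
  have hs : ∀ (c : K) (a b : W), hh ν (c • a) b = c * hh ν a b := fun c a b => by
    simp [hh]; ring
  rw [← hs, ← h1, D.iso hX, hs, ← map_mul, Algebra.trace_eq_of_algEquiv σ]

/-- The form of degree four. -/
noncomputable def quart (e : 𝕍 ≃ₗ[K] W) (ν : K) (X : GL ι F) : W → W → W → W → F :=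
  fun x y z w => Algebra.trace F K (hh ν (co e X x) (co e X y) * hh ν (co e X z) (co e X w))

theorem quart_mul (X Y : GL ι F) (x y z w : W) :
    quart e ν (X * Y) x y z w = quart e ν X (co e Y x) (co e Y y) (co e Y z) (co e Y w) := by
  simp [quart, co_mul]

theorem quart_semi (D : Frame Q B e ν) {X : GL ι F} (hX : X ∈ isometryGroup F Q) (hS : Semi e X) :
    quart e ν X = quart e ν (1 : GL ι F) := by
  obtain ⟨σ, -, hσ⟩ := hS.sigma D hX
  funext x y z w
  rw [quart, quart, hσ, hσ, ← map_mul, Algebra.trace_eq_of_algEquiv σ]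
  simp [co_one]

theorem semi_of_quart (D : Frame Q B e ν) {X : GL ι F} (hX : X ∈ isometryGroup F Q)
    (h : quart e ν X = quart e ν (1 : GL ι F)) : Semi e X := by
  intro k
  refine ⟨hh ν (co e X (k, 0, 0)) (co e X (0, 0, 1)), fun u => D.ext (F := F) fun v => ?_⟩
  obtain ⟨v, rfl⟩ := (co e X).surjective v
  have h1 := congrFun (congrFun (congrFun (congrFun h u) v) (k, 0, 0)) (0, 0, 1)
  simp only [quart, co_one] at h1
  rw [D.iso hX, show hh ν v (k • u) = hh ν u v * hh ν (k, 0, 0) (0, 0, 1) by simp [hh]; ring,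
    ← h1]
  refine congrArg _ ?_
  simp [hh]; ring

/-- The orbit sums vanish. -/
theorem quart_sum_zero (h3 : 3 ≤ Fintype.card F) (h5 : 5 ≤ finrank F K)
    (X : GL ι F) (x y z w : W) :
    ∑ a : K, quart e ν X (uaMap ν a x) (uaMap ν a y) (uaMap ν a z) (uaMap ν a w) = 0 := by
  have hu : ∀ u : W, DegV (F := F) 2 fun a => co e X (uaMap ν a u) := by
    intro u l
    let u₁ : W := (-(ν * u.2.1), u.2.2, 0)
    let u₂ : W := (-(2⁻¹ * ν * u.2.2), 0, 0)
    let l' : W →ₗ[F] F := l ∘ₗ (co e X : W →ₗ[F] W)
    let lu : K →ₗ[F] F := l' ∘ₗ (LinearMap.toSpanSingleton K W u₁).restrictScalars F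
    let β : K →ₗ[F] K →ₗ[F] F := (LinearMap.mul F K).compr₂
      (l' ∘ₗ (LinearMap.toSpanSingleton K W u₂).restrictScalars F)
    let b := Module.finBasis F K
    refine ((((Deg.const (l' u)).mono (Nat.zero_le 2)).add ((Deg.lin lu).mono one_le_two)).add
      (Deg.sum Finset.univ fun i (_ : i ∈ Finset.univ) =>
        (Deg.lin (b.coord i)).mul (Deg.lin (β (b i))))).congr fun a => ?_
    have e1 : ∑ i, b.coord i a * β (b i) a = β a a := by
      conv_rhs => rw [show β a = ∑ i, b.repr a i • β (b i) by
        conv_lhs => rw [← b.sum_repr a, map_sum]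
        simp]
      simp
    rw [e1]
    have e2 : uaMap ν a u = u + a • u₁ + (a * a) • u₂ := by
      simp [uaMap, u₁, u₂, Prod.ext_iff]
      ring
    show _ = l (co e X (uaMap ν a u))
    rw [e2]
    simp [lu, β, l']
  let γ : W →ₗ[F] W →ₗ[F] K := LinearMap.mk₂ F (fun u v => hh ν u v)
    (fun a b c => by simp [hh]; ring)
    (fun c a b => by
      simp only [hh, Prod.smul_fst, Prod.smul_snd]; simp only [Algebra.smul_def]; ring)
    (fun a b c => by simp [hh]; ring)
    (fun c a b => by
      simp only [hh, Prod.smul_fst, Prod.smul_snd]; simp only [Algebra.smul_def]; ring)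
  let τ : K →ₗ[F] K →ₗ[F] F := Algebra.traceForm F K
  have h8 := (((hu x).bilin (hu y) γ).bilin ((hu z).bilin (hu w) γ) τ) LinearMap.id
  refine (Finset.sum_congr rfl fun a _ => ?_).trans (h8.sum_zero ?_)
  · rfl
  · have : 2 * 5 ≤ (Fintype.card F - 1) * finrank F K := Nat.mul_le_mul (by omega) h5
    omega

/-- The fixed space of a conjugate of a unipotent element. -/
theorem Over.not_semi_conj (H : Over Q B e ν L) (hr : (finrank F K).Prime) (h5 : 5 ≤ finrank F K)
    (hall : ∀ g ∈ L, Pres e g → Semi e g) {X : GL ι F} (hX : X ∈ L) (hXS : ¬ Semi e X) {a : K}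
    (ha : a ≠ 0) {U : GL ι F} (hUL : U ∈ L) (hU : ∀ u, co e U u = uaMap ν a u) :
    ¬ Semi e (X * U * X⁻¹) := by
  intro hS
  have D := H.frame
  set Y := X * U * X⁻¹ with hY
  have hYL : Y ∈ L := L.mul_mem (L.mul_mem hX hUL) (L.inv_mem hX)
  obtain ⟨σ, hσ, -⟩ := hS.sigma D (H.le hYL)
  have hfix : ∀ x, co e Y (co e X (x, 0, 0)) = co e X (x, 0, 0) := fun x => by
    rw [hY, co_mul, co_mul, co_inv', hU]
    simp [uaMap]
  have hfix' : ∀ u, co e Y u = u → ∃ x, u = co e X (x, 0, 0) := by
    intro u hu
    obtain ⟨v, rfl⟩ := (co e X).surjective u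
    rw [hY, co_mul, co_mul, co_inv', hU] at hu
    have h1 := (co e X).injective hu
    have hz : v.2.2 = 0 := by simpa [uaMap, ha] using congrArg (fun v : W => v.2.1) h1
    have hy : v.2.1 = 0 := by simpa [uaMap, ha, hz, D.ne] using congrArg (fun v : W => v.1) h1
    exact ⟨v.1, congrArg _ (Prod.ext rfl (Prod.ext hy hz))⟩
  by_cases hid : ∀ k, σ k = k
  · -- the image of the axis is a singular line
    set p := co e X ((1, 0, 0) : W) with hp
    have hline : ∀ x, ∃ k : K, co e X (x, 0, 0) = k • p := by
      have h1 : ∀ k : K, ∃ x, k • p = co e X (x, 0, 0) := fun k =>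
        hfix' _ (by rw [hσ, hid, hp, hfix])
      choose f hf using h1
      have hp0 : p ≠ 0 := fun h => by
        simpa using (co e X).injective (h.trans (map_zero (co e X)).symm)
      have hinj : Function.Injective f := fun k k' h =>
        smul_left_injective K hp0 (show k • p = k' • p by rw [hf, hf, h])
      intro x
      obtain ⟨k, rfl⟩ := (Finite.injective_iff_surjective.1 hinj) x
      exact ⟨k, (hf k).symm⟩
    have hpp : hh ν p p = 0 := trace_ext (F := F) fun k => by
      obtain ⟨x, hx⟩ := hfix' (k • p) (by rw [hσ, hid, hp, hfix])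
      rw [show k * hh ν p p = hh ν (k • p) p by simp [hh]; ring, hx, hp, D.iso (H.le hX)]
      simp [hh]
    simp only [hh] at hpp
    rcases eq_or_ne p.2.2 0 with hz | hz
    · have hy : p.2.1 = 0 := by simpa [hz, D.ne] using hpp
      refine hXS (hall X hX fun x => ?_)
      obtain ⟨k, hk⟩ := hline x
      exact ⟨k * p.1, hk.trans (by simp [Prod.ext_iff, hy, hz])⟩
    · obtain ⟨U', hU'L, hU'⟩ := H.ua (p.2.1 / p.2.2)
      obtain ⟨W', hW'L, hW'⟩ := H.w
      have hl : Semi e (U' * W') := (Mem.semi (fun k u => uaMap_smul _ k u) hU').mul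
        (Mem.semi (fun k u => wMap_smul k u) hW')
      have hP : Pres e ((U' * W')⁻¹ * X) := fun x => by
        obtain ⟨k, hk⟩ := hline x
        refine ⟨-(ν * k * p.2.2 / 2), (co e (U' * W')).injective ?_⟩
        rw [co_mul (U' * W')⁻¹ X, co_inv, hk, co_mul, hW', hU']
        have hν := D.ne
        have h2 := D.two'
        have hxe : p.1 = -(ν * p.2.1 ^ 2) / (2 * p.2.2) := by
          field_simp
          linear_combination hpp
        simp [uaMap, wMap, Prod.ext_iff, hxe]
        refine ⟨?_, ?_, ?_⟩ <;> field_simp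
      have := hall _ (L.mul_mem (L.inv_mem (L.mul_mem hU'L hW'L)) hX) hP
      exact hXS (by simpa [mul_assoc] using hl.mul this)
  · -- fixed vectors independent over the fixed field are independent
    have hF : ∀ k, σ k = k → k ∈ (⊥ : Subalgebra F K) := by
      have := Subalgebra.isSimpleOrder_of_finrank_prime F K hr
      let S : Subalgebra F K := AlgHom.equalizer σ.toAlgHom (AlgHom.id F K)
      rcases eq_bot_or_eq_top S with h | h
      · exact fun k hk => h ▸ (show k ∈ S from hk)
      · exact absurd (fun k => (h.symm ▸ Algebra.mem_top : k ∈ S)) hid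
    let b := Module.finBasis F K
    set v : Fin (finrank F K) → W := fun i => co e X (b i, 0, 0) with hv
    have hind : ∀ s : Finset (Fin (finrank F K)), ∀ k : Fin (finrank F K) → K,
        ∑ i ∈ s, k i • v i = 0 → ∀ i ∈ s, k i = 0 := by
      classical
      intro s
      induction s using Finset.induction_on with
      | empty => simp
      | insert j s hj ih =>
        intro k hk
        rw [Finset.sum_insert hj] at hk
        suffices k j = 0 by
          intro i hi
          rcases Finset.mem_insert.1 hi with rfl | hi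
          · exact this
          · rw [this, zero_smul, zero_add] at hk
            exact ih k hk i hi
        by_contra hkj
        set c : Fin (finrank F K) → K := fun i => (k j)⁻¹ * k i with hc
        have h1 : v j + ∑ i ∈ s, c i • v i = 0 := by
          have := congrArg ((k j)⁻¹ • ·) hk
          simpa [smul_add, Finset.smul_sum, smul_smul, hkj, hc] using this
        have h2 := congrArg (co e Y) h1
        simp only [map_add, map_sum, hσ, hv, hfix, map_zero] at h2
        have h3 : ∑ i ∈ s, (σ (c i) - c i) • v i = 0 := by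
          simp only [sub_smul, Finset.sum_sub_distrib]
          rw [← h1] at h2
          exact sub_eq_zero.2 (add_left_cancel h2)
        have h4 : ∀ i ∈ s, ∃ t : F, c i = algebraMap F K t := fun i hi => by
          obtain ⟨t, ht⟩ := Algebra.mem_bot.1 (hF _ (sub_eq_zero.1 (ih _ h3 i hi)))
          exact ⟨t, ht.symm⟩
        choose! t ht using h4
        have h5 : b j + ∑ i ∈ s, t i • b i = 0 := by
          have e1 : v j + ∑ i ∈ s, t i • v i = 0 := by
            rw [← h1]
            exact congrArg _ (Finset.sum_congr rfl fun i hi => by rw [ht i hi, algebraMap_smul])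
          let Λ : K →ₗ[F] W := (co e X : W →ₗ[F] W) ∘ₗ LinearMap.inl F K (K × K)
          have e2 : Λ (b j + ∑ i ∈ s, t i • b i) = 0 := by
            rw [map_add, map_sum]
            simp only [map_smul]
            exact e1
          simpa [Λ] using e2
        have h6 := linearIndependent_iff'.1 b.linearIndependent (insert j s)
          (Function.update t j 1) (by
            rw [← h5, Finset.sum_insert hj, Function.update_self, one_smul]
            exact congrArg _ (Finset.sum_congr rfl fun i hi => by
              rw [Function.update_of_ne (ne_of_mem_of_not_mem hi hj)])) j (Finset.mem_insert_self j s)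
        simp at h6
    have hli : LinearIndependent K v := linearIndependent_iff'.2 hind
    have := hli.fintype_card_le_finrank
    rw [Fintype.card_fin, Module.finrank_prod, Module.finrank_prod, finrank_self] at this
    omega

/-- If the elements preserving the axis are semilinear, all are. -/
theorem Over.all_semi (H : Over Q B e ν L) (h3 : 3 ≤ Fintype.card F) (hr : (finrank F K).Prime)
    (h5 : 5 ≤ finrank F K) (hall : ∀ g ∈ L, Pres e g → Semi e g) : ∀ g ∈ L, Semi e g := by
  classical
  have D := H.frame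
  choose U hUL hU using H.ua
  set Φ₁ := quart e ν (1 : GL ι F)
  set O : Finset (W → W → W → W → F) := (Finset.univ : Finset L).image fun X => quart e ν X.1
  -- the sum of an invariant set without fixed points
  have horb : ∀ s ⊆ O.erase Φ₁,
      (∀ X ∈ L, quart e ν X ∈ s → ∀ a, quart e ν (X * U a) ∈ s) →
      ∀ x y z w, ∑ f ∈ s, f x y z w = 0 := by
    intro s
    induction s using Finset.strongInduction with
    | H s ih =>
      intro hs hcl x y z w
      rcases s.eq_empty_or_nonempty with rfl | ⟨f, hf⟩
      · simp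
      obtain ⟨⟨X, hX⟩, -, rfl⟩ := Finset.mem_image.1 (Finset.mem_of_mem_erase (hs hf))
      have hXS : ¬ Semi e X := fun h =>
        Finset.ne_of_mem_erase (hs hf) (quart_semi D (H.le hX) h)
      have hUU : ∀ a b, U a * U b = U (a + b) := fun a b => co_ext (e := e) fun u => by
        rw [co_mul, hU, hU, hU, uaMap_add D.two']
      have hU0 : U 0 = 1 := co_ext (e := e) fun u => by rw [hU, uaMap_zero, co_one]
      have hshift : ∀ Y Z c, quart e ν Y = quart e ν Z →
          quart e ν (Y * U c) = quart e ν (Z * U c) := fun Y Z c h => by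
        funext x y z w
        rw [quart_mul, quart_mul, h]
      have hinj : Function.Injective fun a => quart e ν (X * U a) := by
        intro a b hab
        by_contra hne
        have h1 := hshift _ _ (-b) hab
        rw [mul_assoc, mul_assoc, hUU, hUU, add_neg_cancel, hU0, mul_one] at h1
        have hne' : a + -b ≠ 0 := fun h => hne (by linear_combination h)
        refine H.not_semi_conj hr h5 hall hX hXS hne' (hUL _) (hU _)
          (semi_of_quart D (H.le (L.mul_mem (L.mul_mem hX (hUL _)) (L.inv_mem hX))) ?_)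
        funext x y z w
        rw [quart_mul, h1, ← quart_mul, mul_inv_cancel]
      set T := (Finset.univ : Finset K).image fun a => quart e ν (X * U a) with hT
      have hTs : T ⊆ s := fun f' hf' => by
        obtain ⟨a, -, rfl⟩ := Finset.mem_image.1 hf'
        exact hcl X hX hf a
      have hmem : quart e ν X ∈ T :=
        Finset.mem_image.2 ⟨0, Finset.mem_univ _, by rw [hU0, mul_one]⟩
      have hlt : s \ T ⊂ s := Finset.sdiff_ssubset hTs ⟨_, hmem⟩
      have h1 := ih _ hlt (Finset.sdiff_subset.trans hs) (fun Z hZ hZm c => by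
        obtain ⟨hZs, hZT⟩ := Finset.mem_sdiff.1 hZm
        refine Finset.mem_sdiff.2 ⟨hcl Z hZ hZs c, fun hm => hZT ?_⟩
        obtain ⟨a, -, ha⟩ := Finset.mem_image.1 hm
        refine Finset.mem_image.2 ⟨a + -c, Finset.mem_univ _, ?_⟩
        have h := hshift _ _ (-c) ha
        rwa [mul_assoc, mul_assoc, hUU, hUU, add_neg_cancel, hU0, mul_one] at h) x y z w
      rw [← Finset.sum_sdiff hTs, h1, zero_add, hT, Finset.sum_image hinj.injOn]
      simp only [quart_mul, hU]
      exact quart_sum_zero h3 h5 X x y z w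
  have h1O : Φ₁ ∈ O := Finset.mem_image.2 ⟨1, Finset.mem_univ _, rfl⟩
  have hS : ∀ x y z w, ∑ f ∈ O, f x y z w = Φ₁ x y z w := fun x y z w => by
    rw [← Finset.add_sum_erase O _ h1O, horb _ Finset.Subset.rfl (fun X hX hm a => ?_) x y z w,
      add_zero]
    refine Finset.mem_erase.2 ⟨fun h => ?_,
      Finset.mem_image.2 ⟨⟨_, L.mul_mem hX (hUL a)⟩, Finset.mem_univ _, rfl⟩⟩
    have hsem := semi_of_quart D (H.le (L.mul_mem hX (hUL a))) h
    obtain ⟨V, hVL, hV⟩ : ∃ V ∈ L, ∀ u, co e V u = uaMap ν (-a) u :=
      ⟨U (-a), hUL _, hU _⟩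
    have h' := hsem.mul (Mem.semi (fun k u => uaMap_smul _ k u) hV)
    have e1 : U a * V = 1 := co_ext (e := e) fun u => by
      rw [co_mul, hV, hU, uaMap_add D.two', add_neg_cancel, uaMap_zero, co_one]
    rw [mul_assoc, e1, mul_one] at h'
    exact Finset.ne_of_mem_erase hm (quart_semi D (H.le hX) h')
  intro g hg
  refine semi_of_quart D (H.le hg) ?_
  funext x y z w
  have h1 := hS (co e g x) (co e g y) (co e g z) (co e g w)
  have h2 : Φ₁ (co e g x) (co e g y) (co e g z) (co e g w) = quart e ν g x y z w := by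
    simp only [Φ₁]
    rw [← quart_mul, one_mul]
  rw [h2] at h1
  refine Eq.trans h1.symm (Eq.trans ?_ (hS x y z w))
  refine Finset.sum_bij (fun f _ => fun x y z w => f (co e g x) (co e g y) (co e g z) (co e g w))
    (fun f hf => ?_) (fun f _ f' _ h => ?_) (fun f hf => ?_) (fun f _ => rfl)
  · obtain ⟨Y, -, rfl⟩ := Finset.mem_image.1 hf
    exact Finset.mem_image.2 ⟨Y * (⟨g, hg⟩ : L), Finset.mem_univ _, funext fun x => funext fun y =>
      funext fun z => funext fun w => quart_mul _ _ _ _ _ _⟩
  · funext x y z w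
    have := congrFun (congrFun (congrFun (congrFun h (co e g⁻¹ x)) (co e g⁻¹ y)) (co e g⁻¹ z))
      (co e g⁻¹ w)
    simpa [co_inv] using this
  · obtain ⟨Y, -, rfl⟩ := Finset.mem_image.1 hf
    refine ⟨_, Finset.mem_image.2 ⟨Y * (⟨g, hg⟩ : L)⁻¹, Finset.mem_univ _, rfl⟩, ?_⟩
    funext x y z w
    show quart e ν (Y.1 * g⁻¹) _ _ _ _ = _
    rw [quart_mul, co_inv', co_inv', co_inv', co_inv']

end Cfsg.Lib.Linear.OrthExtThree
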