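import Cfsg.Agent.Lib.Linear.OrthExtThree.Uni
import Cfsg.Agent.Lib.Linear.OrthSubfieldTop
import Cfsg.Agent.Lib.Linear.SpTensor.Gen

/-!
# An overgroup with an element which is not semilinear contains `Ω`

All Siegel elements centred on the two singular axes are in the group.
-/

set_option autoImplicit false
set_option linter.unusedSectionVars false

namespace Cfsg.Lib.Linear.OrthExtThree

open Module
open scoped Matrix
open Cfsg.Lib.Linear.Orth

variable {ι : Type} [Fintype ι] [DecidableEq ι] {F K : Type*} [Field F] [Field K] [Algebra F K]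
  [Module K (ι → F)] [IsScalarTower F K (ι → F)] [Fintype F] [Fintype K]
  {Q : (ι → F) → F} {B : LinearMap.BilinForm F (ι → F)} {e : (ι → F) ≃ₗ[K] K × K × K} {ν : K}
  {L : Subgroup (GL ι F)}

local notation "𝕍" => (ι → F)
local notation "W" => K × K × K

theorem Frame.Q_zero (D : Frame Q B e ν) {v : 𝕍} (h : hh ν (e v) (e v) = 0) : Q v = 0 := by
  have h1 := D.tr v v
  rw [h, map_zero, D.space.self] at h1
  exact (mul_eq_zero.1 h1).resolve_left D.two

/-- The Siegel elements of the axis orthogonal for the form over the extension. -/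
theorem Over.sGL_axis (H : Over Q B e ν L)
    (huni : ∀ X ∈ isometryGroup F Q, ∀ ψ : K →ₗ[F] K, Uni e X ψ → X ∈ L)
    (a : K) {y : 𝕍} (hy : (e y).2.2 = 0) : sGL Q B (e.symm (a, 0, 0)) y ∈ L := by
  have D := H.frame
  have hQ : Q (e.symm (a, 0, 0)) = 0 := D.Q_zero (by simp [hh])
  have hB : B (e.symm (a, 0, 0)) y = 0 := by rw [D.tr, e.apply_symm_apply]; simp [hh, hy]
  have heF : ∀ (c : F) (v : 𝕍), e (c • v) = c • e v := fun c v => (e.restrictScalars F).map_smul c v
  refine huni _ (sGL_mem D.space hQ hB)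
    (-((Algebra.trace F K ∘ₗ LinearMap.mulLeft F (ν * (e y).2.1)).smulRight a))
    ⟨fun x => ?_, fun x => ?_, fun u => ?_⟩
  all_goals
    rw [co_apply, sGL_act D.space hQ hB, map_sub, map_add, heF, heF, D.tr, D.tr,
      e.apply_symm_apply, e.apply_symm_apply]
  · simp [hh, hy]
  · simp [hh, hy, mul_assoc]
  · simp [hy]

/-- An overgroup with an element preserving the axis which is not semilinear. -/
theorem Over.root_top (H : Over Q B e ν L) (h3 : 3 ≤ Fintype.card F) (hr : (finrank F K).Prime)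
    (h5 : 3 ≤ finrank F K) {g : GL ι F} (hg : g ∈ L) (hP : Pres e g) (hgS : ¬ Semi e g) :
    Root Q B ⊤ ≤ L := by
  have D := H.frame
  have C := D.space
  have hν := D.ne
  have h2 := D.two'
  have huni : ∀ X ∈ isometryGroup F Q, ∀ ψ : K →ₗ[F] K, Uni e X ψ → X ∈ L :=
    fun X hX ψ hψ => H.mem_of_uni h3 hr h5 hg hP hgS hX hψ
  obtain ⟨J, hJ, hJu⟩ := H.w
  have hJe : ∀ u, J.val *ᵥ e.symm u = e.symm (wMap ν u) := fun u => by
    rw [← hJu, co_apply, e.symm_apply_apply]
  have hax : ∀ k : K, Q (e.symm (k, 0, 0)) = 0 ∧ Q (e.symm (0, 0, k)) = 0 := fun k =>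
    ⟨D.Q_zero (by simp [hh]), D.Q_zero (by simp [hh])⟩
  -- a hyperbolic pair on the middle axis
  let N : K →ₗ[F] 𝕍 := (e.symm.restrictScalars F : W →ₗ[F] 𝕍) ∘ₗ LinearMap.inr F K (K × K) ∘ₗ
    LinearMap.inl F K K
  have hN : ∀ k, N k = e.symm (0, k, 0) := fun k => rfl
  have hnd : NDeg B (LinearMap.range N) := by
    rintro _ ⟨k, rfl⟩ hk
    have h1 : ν * k = 0 := trace_ext (F := F) fun l => by
      have h4 := hk _ ⟨l, rfl⟩
      rw [hN, hN, D.tr, e.apply_symm_apply, e.apply_symm_apply] at h4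
      simp [hh] at h4
      rw [mul_zero, map_zero, mul_comm l]
      exact h4
    rw [(mul_eq_zero.1 h1).resolve_left hν, map_zero]
  obtain ⟨w₁, f₁, hH⟩ := exists_hyp' C hnd (by
    rw [LinearMap.finrank_range_of_inj fun a b hab => by simpa [hN] using hab]
    omega)
  obtain ⟨wk, hwk⟩ := hH.memE
  obtain ⟨fk, hfk⟩ := hH.memF
  have hw3 : (e w₁).2.2 = 0 := by rw [← hwk, hN, e.apply_symm_apply]
  have hf3 : (e f₁).2.2 = 0 := by rw [← hfk, hN, e.apply_symm_apply]
  have Fx : ∀ (a : K) (y : 𝕍), B (e.symm (a, 0, 0)) y = 0 →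
      sGL Q B (e.symm (a, 0, 0)) y ∈ L := by
    intro a y hy
    set v := e.symm (a, 0, 0) with hv
    set d := (e y).2.2 with hd
    set fd := e.symm (0, 0, d) with hfd
    have hvd : B v fd = 0 := by
      rw [D.tr] at hy ⊢
      simpa [hh, hv, hfd, hd] using hy
    have hBw : B w₁ v = 0 := by
      rw [← hwk, hN, D.tr]; simp [hh, hv]
    have hBf : B f₁ fd = 0 := by
      rw [← hfk, hN, D.tr]; simp [hh, hfd]
    have ha : sGL Q B w₁ v ∈ L := by
      rw [sGL_swap C hH.singE (hax a).1 hBw]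
      exact H.sGL_axis huni a (by simp [hw3])
    have hb : sGL Q B f₁ fd ∈ L := by
      rw [sGL_swap C hH.singF (hax d).2 hBf]
      set k := -(ν * d / 2) with hk
      have h1 := L.mul_mem (L.mul_mem hJ (H.sGL_axis huni k hf3)) (L.inv_mem hJ)
      rw [sGL_conj C (hax k).1 (by rw [← hfk, hN, D.tr]; simp [hh]) (H.le hJ), hJe] at h1
      have e1 : e.symm (wMap ν (k, 0, 0)) = fd := by
        simp [wMap, hk, hfd, Prod.ext_iff]
        field_simp
      have e2 : J.val *ᵥ f₁ = -f₁ := by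
        rw [← hfk, hN, hJe, ← map_neg]
        simp [wMap]
      rwa [e1, e2] at h1
    have hres := OrthSub.rule_coeff C H.le (x := w₁) (y := v) (u := f₁) (v := fd) (a := (1 : F))
      (b := 1) hH.singE (hax a).1 hH.singF (hax d).2 hBw hBf
      (by rw [← hfk, hN, D.tr]; simp [hh, hv]) hvd (by rw [← hwk, hN, D.tr]; simp [hh, hfd])
      hH.pair (by rwa [one_smul]) (by rwa [one_smul])
    rw [mul_one, one_smul] at hres
    have hrest : (e (y - fd)).2.2 = 0 := by simp [hfd, hd]
    have := L.mul_mem hres (H.sGL_axis huni a hrest)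
    rwa [sGL_mul C (hax a).1 hvd (by rw [map_sub, hy, hvd, sub_zero]), add_sub_cancel] at this
  obtain ⟨κ, hκ⟩ := Algebra.trace_surjective F K 1
  refine SpTensor.root_le_of_two C H.le (hax 1).1 (hax κ).2 ?_ (Fx 1) fun y hy => ?_
  · rw [D.tr, e.apply_symm_apply, e.apply_symm_apply]
    simpa [hh] using hκ
  · set k := -(ν * κ / 2) with hk
    have e1 : J.val *ᵥ e.symm (k, 0, 0) = e.symm (0, 0, κ) := by
      rw [hJe]
      simp [wMap, hk, Prod.ext_iff]
      field_simp
    set y₀ := (J⁻¹ : GL ι F).val *ᵥ y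
    have hy₀ : B (e.symm (k, 0, 0)) y₀ = 0 := by rw [← C.B_act (H.le hJ), e1, act_inv, hy]
    have h1 := L.mul_mem (L.mul_mem hJ (Fx k y₀ hy₀)) (L.inv_mem hJ)
    rwa [sGL_conj C (hax k).1 hy₀ (H.le hJ), e1, act_inv] at h1

end Cfsg.Lib.Linear.OrthExtThree
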