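import Cfsg.Agent.Lib.Linear.OrthExtThree.Orbit
import Cfsg.Agent.Lib.Linear.OOTensor.Pair

/-!
# The unipotent radical of the axis

An element preserving the axis which is not semilinear puts all isometries of unipotent shape in
the group.
-/

set_option autoImplicit false
set_option linter.unusedSectionVars false

namespace Cfsg.Lib.Linear.OrthExtThree

open Module Polynomial
open scoped Matrix
open Cfsg.Lib.Linear.Orth
open Cfsg.Lib.Linear.OOTensor (opHom lc left_M left_N opHom_apply add_inv_eq skew_of_sq_zero)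

variable {ι : Type} [Fintype ι] [DecidableEq ι] {F K : Type*} [Field F] [Field K] [Algebra F K]
  [Module K (ι → F)] [IsScalarTower F K (ι → F)]
  {Q : (ι → F) → F} {B : LinearMap.BilinForm F (ι → F)} {e : (ι → F) ≃ₗ[K] K × K × K} {ν : K}
  {L : Subgroup (GL ι F)}

local notation "𝕍" => (ι → F)
local notation "W" => K × K × K

/-- The shape of an element of the unipotent radical. -/
structure Uni (e : 𝕍 ≃ₗ[K] W) (X : GL ι F) (ψ : K →ₗ[F] K) : Prop where
  fst : ∀ x, co e X (x, 0, 0) = (x, 0, 0)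
  snd : ∀ y, co e X (0, y, 0) = (ψ y, y, 0)
  trd : ∀ u, (co e X u).2.2 = u.2.2

/-- The maps occurring in the group. -/
def Psi (e : 𝕍 ≃ₗ[K] W) (L : Subgroup (GL ι F)) (ψ : K →ₗ[F] K) : Prop :=
  ∃ X ∈ L, Uni e X ψ

theorem split3 (u : W) : u = (u.1, 0, 0) + (0, u.2.1, 0) + (0, 0, u.2.2) := by simp

theorem uni_of_ua {X : GL ι F} {a : K} (hX : ∀ u, co e X u = uaMap ν a u) :
    Uni e X (LinearMap.mulLeft F (-(ν * a))) :=
  ⟨fun x => by simp [hX, uaMap], fun y => by simp [hX, uaMap], fun u => by simp [hX, uaMap]⟩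

theorem Psi.add {ψ ψ' : K →ₗ[F] K} (h : Psi e L ψ) (h' : Psi e L ψ') : Psi e L (ψ + ψ') := by
  obtain ⟨X, hX, hXu⟩ := h
  obtain ⟨Y, hY, hYu⟩ := h'
  refine ⟨X * Y, L.mul_mem hX hY, fun x => by rw [co_mul, hYu.fst, hXu.fst], fun y => ?_,
    fun u => by rw [co_mul, hXu.trd, hYu.trd]⟩
  rw [co_mul, hYu.snd, show ((ψ' y, y, 0) : W) = (ψ' y, 0, 0) + (0, y, 0) by simp, map_add,
    hXu.fst, hXu.snd]
  simp [add_comm]

theorem Psi.neg {ψ : K →ₗ[F] K} (h : Psi e L ψ) : Psi e L (-ψ) := by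
  obtain ⟨X, hX, hXu⟩ := h
  refine ⟨X⁻¹, L.inv_mem hX, fun x => (co e X).injective ?_, fun y => (co e X).injective ?_,
    fun u => ?_⟩
  · rw [co_inv, hXu.fst]
  · rw [co_inv, show (((-ψ) y, y, 0) : W) = (-ψ y, 0, 0) + (0, y, 0) by simp, map_add, hXu.fst,
      hXu.snd]
    simp
  · conv_rhs => rw [← co_inv (e := e) X u, hXu.trd]

/-- Conjugating by an element preserving the axis. -/
theorem Psi.conj {ψ ψ' : K →ₗ[F] K} (h : Psi e L ψ) {g : GL ι F} (hg : g ∈ L)
    {A β C D' : K →ₗ[F] K} (hAb : Function.Surjective A) (hCb : Function.Surjective C)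
    (hA : ∀ x, co e g (x, 0, 0) = (A x, 0, 0)) (hC : ∀ y, co e g (0, y, 0) = (β y, C y, 0))
    (hD : ∀ u, (co e g u).2.2 = D' u.2.2) (hψ : ∀ y, ψ' (C y) = A (ψ y)) : Psi e L ψ' := by
  obtain ⟨X, hX, hXu⟩ := h
  refine ⟨g * X * g⁻¹, L.mul_mem (L.mul_mem hg hX) (L.inv_mem hg), fun x => ?_, fun y => ?_,
    fun u => ?_⟩
  · obtain ⟨x, rfl⟩ := hAb x
    rw [co_mul, co_mul, ← hA, co_inv', hXu.fst]
  · obtain ⟨y, rfl⟩ := hCb y
    obtain ⟨x, hx⟩ := hAb (β y)
    have e1 : co e g⁻¹ (0, C y, 0) = (-x, y, 0) := (co e g).injective (by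
      rw [co_inv, show ((-x, y, 0) : W) = (0, y, 0) - (x, 0, 0) by simp, map_sub, hA, hC, hx]
      simp)
    rw [co_mul, co_mul, e1, show ((-x, y, 0) : W) = (0, y, 0) - (x, 0, 0) by simp, map_sub,
      hXu.fst, hXu.snd, map_sub, hA, show ((ψ y, y, 0) : W) = (ψ y, 0, 0) + (0, y, 0) by simp,
      map_add, hA, hC, hψ, hx]
    simp
  · rw [co_mul, co_mul, hD, hXu.trd, ← hD, co_inv]

theorem Over.psi_smul (H : Over Q B e ν L) {ψ : K →ₗ[F] K} (h : Psi e L ψ) (k : K) :
    Psi e L (LinearMap.mulLeft F k ∘ₗ ψ) := by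
  have h2 := H.frame.two'
  have hsq : ∀ a : K, Psi e L (LinearMap.mulLeft F (a ^ 2) ∘ₗ ψ) := by
    intro a
    rcases eq_or_ne a 0 with rfl | ha
    · have := h.add h.neg
      rw [add_neg_cancel] at this
      simpa using this
    obtain ⟨T, hT, hTu⟩ := H.torus ha
    exact h.conj hT (A := LinearMap.mulLeft F (a ^ 2)) (β := 0) (C := LinearMap.id)
      (D' := LinearMap.mulLeft F (a ^ 2)⁻¹)
      (fun x => ⟨(a ^ 2)⁻¹ * x, by simp [ha]⟩) (fun y => ⟨y, rfl⟩)
      (fun x => by simp [hTu, tMap]) (fun y => by simp [hTu, tMap]) (fun u => by simp [hTu, tMap])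
      (fun y => rfl)
  have := (hsq ((k + 1) / 2)).add (hsq ((k - 1) / 2)).neg
  have e1 : LinearMap.mulLeft F (((k + 1) / 2) ^ 2) ∘ₗ ψ +
      -(LinearMap.mulLeft F (((k - 1) / 2) ^ 2) ∘ₗ ψ) = LinearMap.mulLeft F k ∘ₗ ψ :=
    LinearMap.ext fun y => by
      simp only [LinearMap.add_apply, LinearMap.neg_apply, LinearMap.comp_apply,
        LinearMap.mulLeft_apply]
      field_simp
      ring
  rwa [e1] at this

theorem tMap_axis (s x y z : K) :
    tMap s ((x, y, z) : W) = (s * x, y, s⁻¹ * z) := rfl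

theorem Over.zs_torus (H : Over Q B e ν L) {φ φ' : K →ₗ[F] K} (h : Mem e L (zMap φ)) {a : K}
    (ha : a ≠ 0) (hφ : ∀ y, φ' y = a ^ 2 * φ (a ^ 2 * y)) : Mem e L (zMap φ') := by
  refine (((H.torus ha).comp h).comp (H.torus (inv_ne_zero ha))).congr fun u => ?_
  simp [zMap, tMap, hφ, mul_add, ha]

section Finite

variable [Fintype F] [Fintype K]

/-- Two elements agreeing on the first two axes. -/
theorem Over.diff (H : Over Q B e ν L) {R S : GL ι F} (hR : R ∈ L) (hS : S ∈ L)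
    (h1 : ∀ x, co e R (x, 0, 0) = co e S (x, 0, 0))
    (h2 : ∀ y, co e R (0, y, 0) = co e S (0, y, 0)) :
    ∃ φ : K →ₗ[F] K, Skew φ ∧ Mem e L (zMap φ) ∧ ∀ u, co e R u = co e S (zMap φ u) := by
  have hm : S⁻¹ * R ∈ L := L.mul_mem (L.inv_mem hS) hR
  obtain ⟨φ, hφ, hφu⟩ := H.frame.uni_ext (H.le hm) (fun x => by rw [co_mul, h1, co_inv'])
    (fun y => by rw [co_mul, h2, co_inv'])
  exact ⟨φ, hφ, ⟨_, hm, hφu⟩, fun u => by rw [← hφu, co_mul, co_inv]⟩

theorem Over.eq_of_agree (H : Over Q B e ν L)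
    (hno : ∀ φ : K →ₗ[F] K, Skew φ → Mem e L (zMap φ) → φ = 0)
    {R S : GL ι F} (hR : R ∈ L) (hS : S ∈ L)
    (h1 : ∀ x, co e R (x, 0, 0) = co e S (x, 0, 0))
    (h2 : ∀ y, co e R (0, y, 0) = co e S (0, y, 0)) (u : W) : co e R u = co e S u := by
  obtain ⟨φ, hφ, hm, hu⟩ := H.diff hR hS h1 h2
  rw [hu, hno φ hφ hm]
  simp [zMap]

/-- The commutator with a unipotent element. -/
theorem Over.comm_ua (H : Over Q B e ν L) {X : GL ι F} (hX : X ∈ L) {ψ : K →ₗ[F] K}
    (hXu : Uni e X ψ) (c : K) :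
    ∃ φ : K →ₗ[F] K, Skew φ ∧ Mem e L (zMap φ) ∧
      ∀ z, φ z = ψ (c * z) + ν * c * (co e X (0, 0, z)).2.1 := by
  obtain ⟨U, hU, hUu⟩ := H.ua c
  obtain ⟨φ, hφ, hm, hu⟩ := H.diff (R := X * U) (S := U * X) (L.mul_mem hX hU) (L.mul_mem hU hX)
    (fun x => by simp [co_mul, hUu, hXu.fst, uaMap])
    (fun y => by
      rw [co_mul, co_mul, hXu.snd, hUu, hUu]
      rw [show uaMap ν c ((0, y, 0) : W) = (-(ν * c * y), 0, 0) + (0, y, 0) by simp [uaMap],
        map_add, hXu.fst, hXu.snd]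
      simp [uaMap]
      ring)
  refine ⟨φ, hφ, hm, fun z => ?_⟩
  have h1 := congrArg (fun u : W => u.1) (hu (0, 0, z))
  rw [co_mul, co_mul, hUu, hUu, split3 (uaMap ν c ((0, 0, z) : W)), map_add, map_add,
    show zMap φ ((0, 0, z) : W) = (φ z, 0, 0) + (0, 0, z) by simp [zMap], map_add, hXu.fst] at h1
  simp only [uaMap, hXu.fst, hXu.snd, Prod.fst_add, Prod.snd_add, hXu.trd, mul_zero, sub_zero,
    zero_add] at h1
  linear_combination -h1

/-- Without central elements an element preserving the axis has a shape given by an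
automorphism. -/
theorem Over.shape (H : Over Q B e ν L)
    (hno : ∀ φ : K →ₗ[F] K, Skew φ → Mem e L (zMap φ) → φ = 0)
    {g : GL ι F} (hg : g ∈ L) (hP : Pres e g) :
    ∃ θ : K ≃ₐ[F] K, ∃ α β γ δ κ : K, α ≠ 0 ∧ (∀ x, co e g (x, 0, 0) = (α * θ x, 0, 0)) ∧
      (∀ y, co e g (0, y, 0) = (β * θ y, γ * θ y, 0)) ∧
      (∀ z, (co e g (0, 0, z)).2 = (κ * θ z, δ * θ z)) ∧ (β = 0 → κ = 0) := by
  have D := H.frame
  have h2 := D.two'
  have hν := D.ne
  obtain ⟨A, β, C, D', hAb, hCb, hDb, hA, hC, hD⟩ := D.tri (H.le hg) hP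
  choose U hUL hU using H.ua
  -- every element of unipotent shape is one of them
  have huni : ∀ X ∈ L, ∀ ψ, Uni e X ψ → ∃ b, ∀ u, co e X u = uaMap ν b u := by
    intro X hX ψ hXu
    have hc : ∀ c z, ψ (c * z) + ν * c * (co e X (0, 0, z)).2.1 = 0 := fun c z => by
      obtain ⟨φ, hφ, hm, he⟩ := H.comm_ua hX hXu c
      rw [← he, hno φ hφ hm, LinearMap.zero_apply]
    have hψ : ∀ y, ψ y = ψ 1 * y := fun y => by
      have e1 := hc y 1
      have e2 := hc 1 1
      rw [mul_one] at e1 e2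
      linear_combination e1 - y * e2
    refine ⟨-(ψ 1 / ν), fun u => ?_⟩
    rw [← hU]
    refine H.eq_of_agree hno hX (hUL _) (fun x => by rw [hXu.fst, hU]; simp [uaMap]) (fun y => ?_) u
    rw [hXu.snd, hU]
    simp [uaMap, hψ y]
    field_simp
    simp
  have hσ : ∀ a, ∃ b, ∀ u, co e g (uaMap ν a u) = uaMap ν b (co e g u) := by
    intro a
    set Cq := LinearEquiv.ofBijective C hCb
    obtain ⟨X, hX, hXu⟩ := Psi.conj (ψ' := A ∘ₗ LinearMap.mulLeft F (-(ν * a)) ∘ₗ
      (Cq.symm : K →ₗ[F] K)) ⟨U a, hUL a, uni_of_ua (hU a)⟩ hg hAb.2 hCb.2 hA hC hD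
      (fun y => by simp [show Cq.symm (C y) = y from Cq.symm_apply_apply y])
    obtain ⟨b, hb⟩ := huni X hX _ hXu
    refine ⟨b, fun u => ?_⟩
    have h3 := H.eq_of_agree hno (R := g * U a) (S := X * g) (L.mul_mem hg (hUL a))
      (L.mul_mem hX hg) (fun x => by simp [co_mul, hU, uaMap, hA, hXu.fst]) (fun y => ?_) u
    · rwa [co_mul, co_mul, hU, hb] at h3
    rw [co_mul, co_mul, hC, hU, show ((β y, C y, 0) : W) = (β y, 0, 0) + (0, C y, 0) by simp,
      map_add, hXu.fst, hXu.snd, show uaMap ν a ((0, y, 0) : W) = (-(ν * a) * y, 0, 0) + (0, y, 0) by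
        simp [uaMap], map_add, hA, hC]
    simp [show Cq.symm (C y) = y from Cq.symm_apply_apply y, add_comm]
  choose σ hσ using hσ
  set δ : K → K := fun z => (co e g (0, 0, z)).2.1 with hδ
  have hz : ∀ z, co e g (0, 0, z) = ((co e g (0, 0, z)).1, δ z, D' z) := fun z =>
    Prod.ext rfl (Prod.ext rfl (hD _))
  have hA2 : ∀ x, A (2⁻¹ * x) = 2⁻¹ * A x := fun x => by
    have e1 : (2⁻¹ : K) = algebraMap F K 2⁻¹ := by rw [map_inv₀, map_ofNat]
    rw [e1, ← Algebra.smul_def, map_smul, Algebra.smul_def]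
  have E1 : ∀ a y, A (ν * a * y) = ν * σ a * C y := fun a y => by
    have h1 := congrArg (fun u : W => u.1) (hσ a (0, y, 0))
    rw [split3 (uaMap ν a ((0, y, 0) : W)), map_add, map_add, hC] at h1
    simp [uaMap, hA, hC] at h1
    linear_combination -h1
  have E23 : ∀ a z, C (a * z) = σ a * D' z ∧ β (a * z) = -(ν * σ a * δ z) := by
    intro a z
    have h1 := hσ a (0, 0, z)
    rw [split3 (uaMap ν a ((0, 0, z) : W)), map_add, map_add] at h1
    simp only [uaMap, hA, hC, zero_add, zero_sub, mul_zero, sub_zero] at h1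
    rw [hz z] at h1
    simp only [Prod.mk_add_mk, Prod.mk.injEq, zero_add, add_zero] at h1
    obtain ⟨h1, h3, -⟩ := h1
    have e2 : C (a * z) = σ a * D' z := by linear_combination h3
    refine ⟨e2, ?_⟩
    have e1 : A (-(2⁻¹ * ν * a ^ 2 * z)) = -(2⁻¹ * (ν * σ a * C (a * z))) := by
      rw [map_neg, show 2⁻¹ * ν * a ^ 2 * z = 2⁻¹ * (ν * a * (a * z)) by ring, hA2, E1]
    rw [e1, e2] at h1
    linear_combination h1
  have hσ1 : σ 1 ≠ 0 := fun h => one_ne_zero (α := K)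
    ((injective_iff_map_eq_zero C).1 hCb.1 1 (by simpa [h] using (E23 1 1).1))
  have hC1 : C 1 ≠ 0 := fun h => one_ne_zero (α := K) ((injective_iff_map_eq_zero C).1 hCb.1 1 h)
  have hD1 : D' 1 ≠ 0 := fun h => one_ne_zero (α := K) ((injective_iff_map_eq_zero D').1 hDb.1 1 h)
  have hC1' : C 1 = σ 1 * D' 1 := by simpa using (E23 1 1).1
  have hDz : ∀ z, σ 1 * D' z = C z := fun z => by simpa using ((E23 1 z).1).symm
  have hσa : ∀ a, σ a = σ 1 * (C a / C 1) := fun a => by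
    have h1 := (E23 a 1).1
    rw [mul_one] at h1
    rw [hC1', h1]
    field_simp
  let θ₀ : K →ₐ[F] K :=
    { toFun := fun z => C z / C 1
      map_one' := div_self hC1
      map_mul' := fun a z => by
        show C (a * z) / C 1 = C a / C 1 * (C z / C 1)
        rw [(E23 a z).1, hσa a, ← hDz z]
        field_simp
      map_zero' := by simp
      map_add' := fun a z => by simp [add_div]
      commutes' := fun c => by
        show C (algebraMap F K c) / C 1 = _
        rw [Algebra.algebraMap_eq_smul_one, map_smul, smul_div_assoc, div_self hC1] }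
  let θ := AlgEquiv.ofBijective θ₀ (Finite.injective_iff_bijective.1 θ₀.toRingHom.injective)
  have hθ : ∀ z, θ z = C z / C 1 := fun z => rfl
  have hθν : θ ν ≠ 0 := by simpa using hν
  refine ⟨θ, ν * σ 1 * C 1 / θ ν, -(ν * σ 1 * δ 1), C 1, C 1 / σ 1, δ 1,
    div_ne_zero (mul_ne_zero (mul_ne_zero hν hσ1) hC1) hθν, fun x => ?_, fun y => ?_, fun z => ?_,
    fun h => ?_⟩
  · have h1 := E1 (x / ν) 1
    rw [mul_one, mul_div_cancel₀ _ hν, hσa, ← hθ, map_div₀] at h1
    rw [hA, h1]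
    congr 1
    ring
  · have h1 := (E23 y 1).2
    rw [mul_one, hσa, ← hθ] at h1
    rw [hC, h1, hθ y]
    simp only [Prod.mk.injEq]
    refine ⟨by ring, by field_simp, trivial⟩
  · have h1 := (E23 1 z).2
    have h3 := (E23 z 1).2
    rw [one_mul] at h1
    rw [mul_one, hσa, ← hθ, h1] at h3
    refine Prod.ext ?_ ?_
    · refine mul_left_cancel₀ (mul_ne_zero hν hσ1) ?_
      simp only
      linear_combination -h3
    · show (co e g (0, 0, z)).2.2 = _
      rw [hD, hθ z, ← hDz z]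
      field_simp
  · simpa [hν, hσ1] using h

/-- There is a central element, or the element is semilinear. -/
theorem Over.exists_zs (H : Over Q B e ν L) (h3 : 3 ≤ Fintype.card F) (h5 : 3 ≤ finrank F K)
    {g : GL ι F} (hg : g ∈ L) (hP : Pres e g) (hgS : ¬ Semi e g) :
    ∃ φ : K →ₗ[F] K, Skew φ ∧ φ ≠ 0 ∧ Mem e L (zMap φ) := by
  by_contra hcon
  have hno : ∀ φ : K →ₗ[F] K, Skew φ → Mem e L (zMap φ) → φ = 0 := fun φ hφ hm => by
    by_contra h
    exact hcon ⟨φ, hφ, h, hm⟩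
  have D := H.frame
  have hν := D.ne
  obtain ⟨θ, α, β, γ, δ, κ, hα, h1, h2, -, -⟩ := H.shape hno hg hP
  set t := θ.symm (β / α) / ν with ht
  obtain ⟨U, hUL, hU⟩ := H.ua t
  obtain ⟨V, hVL, hV⟩ := H.ua (-t)
  set g' := g * U with hg'
  have hg'L : g' ∈ L := L.mul_mem hg hUL
  have hg'P : Pres e g' := fun x => ⟨α * θ x, by simp [hg', co_mul, hU, uaMap, h1]⟩
  obtain ⟨θ', α', β', γ', δ', κ', -, h1', h2', h3', hκ⟩ := H.shape hno hg'L hg'P
  have hβ : β' = 0 := by
    have e1 := congrArg (fun u : W => u.1) (h2' 1)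
    rw [hg', co_mul, hU, show uaMap ν t ((0, 1, 0) : W) = (-(ν * t), 0, 0) + (0, 1, 0) by
      simp [uaMap], map_add, h1, h2] at e1
    simp only [map_neg, ht, mul_div_cancel₀ _ hν, θ.apply_symm_apply, map_one, mul_one,
      Prod.fst_add] at e1
    rw [← e1]
    field_simp
    ring
  have hκ0 := hκ hβ
  let γz : K →ₗ[F] K := LinearMap.fst F K (K × K) ∘ₗ (co e g' : W →ₗ[F] W) ∘ₗ
    LinearMap.inr F K (K × K) ∘ₗ LinearMap.inr F K K
  have hz : ∀ z, co e g' (0, 0, z) = (γz z, 0, δ' * θ' z) := fun z => by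
    refine Prod.ext rfl ?_
    rw [h3', hκ0, zero_mul]
  -- the torus
  have hinv : ∀ a : K, a ≠ 0 → ∀ z, γz z = θ' (a ^ 2) * γz (a ^ 2 * z) := by
    intro a ha z
    obtain ⟨T, hTL, hT⟩ := H.torus ha
    obtain ⟨T', hT'L, hT'⟩ := H.torus (show θ' a ≠ 0 by simpa using ha)
    have h4 := H.eq_of_agree hno (R := g' * T) (S := T' * g') (L.mul_mem hg'L hTL)
      (L.mul_mem hT'L hg'L)
      (fun x => by
        simp [co_mul, hT, hT', tMap, h1', Prod.ext_iff]
        ring)
      (fun y => by simp [co_mul, hT, hT', tMap, h2', hβ]) (0, 0, a ^ 2 * z)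
    simp [co_mul, hT, hT', tMap, hz, ha] at h4
    rw [map_pow]
    exact h4.1
  have hγ : γz = 0 := by
    have h4 := eq_zero_of_square_invariant h3 (by omega) (θ'.symm.toLinearMap ∘ₗ γz) fun a ha z =>
      θ'.injective (by
        simp only [map_mul, LinearMap.comp_apply, AlgEquiv.toLinearMap_apply, θ'.apply_symm_apply]
        exact (hinv a ha z).symm)
    refine LinearMap.ext fun z => θ'.symm.injective ?_
    simpa using LinearMap.congr_fun h4 z
  have hform : ∀ u, co e g' u = (α' * θ' u.1, γ' * θ' u.2.1, δ' * θ' u.2.2) := fun u => by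
    conv_lhs => rw [split3 u, map_add, map_add, h1', h2', hz, hγ, hβ]
    simp
  have hS' : Semi e g' := fun k => ⟨θ' k, fun u => by
    simp [hform, Prod.ext_iff]
    refine ⟨?_, ?_, ?_⟩ <;> ring⟩
  refine hgS ?_
  have e1 : g = g' * V := co_ext (e := e) fun u => by
    rw [hg', co_mul, co_mul, hU, hV, uaMap_add D.two', add_neg_cancel, uaMap_zero]
  rw [e1]
  exact hS'.mul (Mem.semi (fun k u => uaMap_smul _ k u) hV)

/-- An involution fixing the middle axis and not scalar on the first. -/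
theorem Over.exists_levi (H : Over Q B e ν L) (h3 : 3 ≤ Fintype.card F) (hr : (finrank F K).Prime)
    (h5 : 3 ≤ finrank F K) {φ : K →ₗ[F] K} (hφ : Skew φ) (hφ0 : φ ≠ 0) (hm : Mem e L (zMap φ)) :
    ∃ j ∈ L, ∃ E E' : K →ₗ[F] K, Function.Surjective E ∧ (∀ k, E ≠ LinearMap.mulLeft F k) ∧
      ∀ u, co e j u = (E u.1, u.2.1, E' u.2.2) := by
  classical
  have D := H.frame
  have h2 := D.two'
  have hν := D.ne
  set c : K := -(2 / ν) with hc
  have hc0 : c ≠ 0 := neg_ne_zero.2 (div_ne_zero h2 hν)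
  obtain ⟨x, hx, htr⟩ := exists_trace_ne hr h3 h2 hφ hφ0 hc0
  set μ := LinearMap.mulLeft F (x ^ 2 * c) with hμ
  set χ : K →ₗ[F] K := μ ∘ₗ φ ∘ₗ μ with hχ
  set φ₁ : K →ₗ[F] K := LinearMap.mulLeft F (x ^ 2) ∘ₗ φ ∘ₗ LinearMap.mulLeft F (x ^ 2)
  have hb : Mem e L fun u => (u.1, u.2.1, u.2.2 + χ u.1) := by
    refine ((H.w.comp (H.zs_torus (φ' := φ₁) hm hx fun y => rfl)).comp H.w).congr fun u => ?_
    simp only [wMap, zMap, Prod.mk.injEq]
    refine ⟨?_, by ring, ?_⟩
    · field_simp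
    · simp only [hχ, hμ, φ₁, hc, LinearMap.comp_apply, LinearMap.mulLeft_apply]
      rw [show x ^ 2 * -(2 / ν) * u.1 = x ^ 2 * (-(2 / ν) * u.1) by ring]
      field_simp
      ring
  obtain ⟨a, ha, hau⟩ := hm
  obtain ⟨b, hbL, hbu⟩ := hb
  obtain ⟨p, hp⟩ := CharP.exists F
  have : Fact p.Prime := ⟨CharP.char_is_prime F p⟩
  set M : Module.End F 𝕍 := opHom a - 1 with hMdef
  set N : Module.End F 𝕍 := opHom b - 1 with hNdef
  set T := M * N + N * M with hTdef
  have hMv : ∀ v, e (M v) = (φ (e v).2.2, 0, 0) := fun v => by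
    have h1 := hau (e v)
    rw [co_apply, e.symm_apply_apply] at h1
    rw [hMdef, LinearMap.sub_apply, Module.End.one_apply, opHom_apply, map_sub, h1]
    simp [zMap, Prod.ext_iff]
  have hNv : ∀ v, e (N v) = (0, 0, χ (e v).1) := fun v => by
    have h1 := hbu (e v)
    rw [co_apply, e.symm_apply_apply] at h1
    rw [hNdef, LinearMap.sub_apply, Module.End.one_apply, opHom_apply, map_sub, h1]
    simp [Prod.ext_iff]
  have hM2 : M * M = 0 := LinearMap.ext fun v => e.injective (by simp [hMv])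
  have hN2 : N * N = 0 := LinearMap.ext fun v => e.injective (by simp [hNv])
  have hTv : ∀ v, e (T v) = (φ (χ (e v).1), 0, χ (φ (e v).2.2)) := fun v => by
    simp [hTdef, hMv, hNv]
  have hTn : ∀ (n : ℕ) v, e ((T ^ n) v) =
      (((φ ∘ₗ χ) ^ n) (e v).1, (0 : K) ^ n * (e v).2.1, ((χ ∘ₗ φ) ^ n) (e v).2.2) := by
    intro n
    induction n with
    | zero => simp
    | succ n ih =>
      intro v
      rw [pow_succ, Module.End.mul_apply, ih, hTv, pow_succ (φ ∘ₗ χ), pow_succ (χ ∘ₗ φ),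
        Module.End.mul_apply, Module.End.mul_apply]
      simp [pow_succ]
  have hTR : ∀ (R : F[X]) v, e (aeval T R v) = (aeval (φ ∘ₗ χ) R (e v).1,
      algebraMap F K (R.eval 0) * (e v).2.1, aeval (χ ∘ₗ φ) R (e v).2.2) := by
    intro R
    induction R using Polynomial.induction_on' with
    | add P P' hP hP' => intro v; simp [hP, hP', add_mul]
    | monomial n s =>
      intro v
      rw [aeval_monomial, aeval_monomial, aeval_monomial, Module.End.mul_apply,
        Module.End.mul_apply, Module.End.mul_apply, Module.algebraMap_end_apply,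
        Module.algebraMap_end_apply, Module.algebraMap_end_apply, ← algebraMap_smul K s, map_smul,
        hTn, Prod.smul_mk, Prod.smul_mk, algebraMap_smul, algebraMap_smul, eval_monomial, map_mul,
        map_pow, map_zero]
      simp [Algebra.smul_def, mul_assoc]
  have hnil : ¬ IsNilpotent T := by
    rintro ⟨n, hn⟩
    have h1 : IsNilpotent (φ ∘ₗ χ) := ⟨n, LinearMap.ext fun y => by
      have h2 := hTn n (e.symm (y, 0, 0))
      rw [hn, e.apply_symm_apply, LinearMap.zero_apply, map_zero] at h2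
      exact (congrArg (fun u : W => u.1) h2).symm⟩
    refine htr ?_
    have h2 := (LinearMap.isNilpotent_trace_of_isNilpotent h1).eq_zero
    rwa [hχ, hμ, ← LinearMap.comp_assoc] at h2
  have haI := H.le ha
  have hbI := H.le hbL
  set X₀ : Subgroup (GL ι F) := Subgroup.closure {a, b} with hX₀
  have hainv : opHom a⁻¹ = 1 + (-1 : F) • M := by
    refine left_inv_eq_right_inv (a := opHom a) (by rw [← map_mul, inv_mul_cancel, map_one]) ?_
    rw [show (-1 : F) • M = -M from neg_one_smul F M, ← sub_eq_add_neg]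
    exact OOTensor.mul_one_sub_eq hM2
  have hbinv : opHom b⁻¹ = 1 + (-1 : F) • N := by
    refine left_inv_eq_right_inv (a := opHom b) (by rw [← map_mul, inv_mul_cancel, map_one]) ?_
    rw [show (-1 : F) • N = -N from neg_one_smul F N, ← sub_eq_add_neg]
    exact OOTensor.mul_one_sub_eq hN2
  have haop : opHom a = 1 + (1 : F) • M := by rw [hMdef, one_smul, add_sub_cancel]
  have hbop : opHom b = 1 + (1 : F) • N := by rw [hNdef, one_smul, add_sub_cancel]
  have hform : ∀ g ∈ X₀, ∃ P₀ P₁ P₂ P₃ : F[X],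
      opHom g = lc M N P₀ P₁ P₂ P₃ ∧ P₀.eval 0 = 1 := by
    intro g hg
    induction hg using Subgroup.closure_induction_left with
    | one => exact ⟨1, 0, 0, 0, by simp [lc], by simp⟩
    | mul_left x hx y _ ih =>
      obtain ⟨P₀, P₁, P₂, P₃, hy, h0⟩ := ih
      rcases hx with rfl | rfl
      · exact ⟨_, _, _, _, by rw [map_mul, haop, hy, left_M hM2 hN2], h0⟩
      · exact ⟨_, _, _, _, by rw [map_mul, hbop, hy, left_N hM2 hN2], by simp [h0]⟩
    | inv_mul_cancel x hx y _ ih =>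
      obtain ⟨P₀, P₁, P₂, P₃, hy, h0⟩ := ih
      rcases hx with rfl | rfl
      · exact ⟨_, _, _, _, by rw [map_mul, hainv, hy, left_M hM2 hN2], h0⟩
      · exact ⟨_, _, _, _, by rw [map_mul, hbinv, hy, left_N hM2 hN2], by simp [h0]⟩
  have hnp : ¬ IsPGroup p X₀ := by
    intro hp'
    obtain ⟨n, hn⟩ := hp' ⟨a * b, X₀.mul_mem (Subgroup.subset_closure (by simp))
      (Subgroup.subset_closure (by simp))⟩
    have h1 : opHom (a * b) ^ p ^ n = 1 := by
      rw [← map_pow, show (a * b) ^ p ^ n = 1 by simpa using congrArg Subtype.val hn, map_one]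
    rcases isEmpty_or_nonempty ι with hι | hι
    · exact hnil ⟨1, LinearMap.ext fun v => Subsingleton.elim _ _⟩
    have : CharP (Module.End F 𝕍) p :=
      charP_of_injective_algebraMap (RingHom.injective (algebraMap F (Module.End F 𝕍))) p
    have h4 : IsNilpotent (opHom (a * b) - 1) := ⟨p ^ n, by
      rw [sub_pow_char_pow_of_commute (p := p) n (Commute.one_right (opHom (a * b))), h1, one_pow,
        sub_self]⟩
    have h5 : opHom (a * b)⁻¹ * opHom (a * b) = 1 := by rw [← map_mul, inv_mul_cancel, map_one]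
    have h6 : opHom (a * b) * opHom (a * b)⁻¹ = 1 := by rw [← map_mul, mul_inv_cancel, map_one]
    have h7 : T = opHom (a * b)⁻¹ * ((opHom (a * b) - 1) * (opHom (a * b) - 1)) := by
      have e1 : opHom (a * b) + opHom (a * b)⁻¹ - 2 = T := by
        rw [mul_inv_rev, map_mul, map_mul, hainv, hbinv, haop, hbop, hTdef,
          show (-1 : F) • M = -M from neg_one_smul F M, show (-1 : F) • N = -N from neg_one_smul F N,
          show (1 : F) • M = M from one_smul F M, show (1 : F) • N = N from one_smul F N,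
          ← sub_eq_add_neg, ← sub_eq_add_neg]
        simp only [mul_add, add_mul, mul_sub, sub_mul, mul_one, one_mul]
        rw [show (2 : Module.End F 𝕍) = 1 + 1 by norm_num]
        abel
      rw [← e1]
      simp only [sub_mul, mul_sub, one_mul, mul_one, ← mul_assoc, h5]
      rw [show (2 : Module.End F 𝕍) = 1 + 1 by norm_num]
      abel
    refine hnil ?_
    have hc1 : Commute (opHom (a * b)⁻¹) (opHom (a * b) - 1) := by
      show _ * _ = _ * _
      rw [mul_sub, sub_mul, h5, h6, mul_one, one_mul]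
    rw [h7]
    exact (hc1.mul_right hc1).isNilpotent_mul_left ((Commute.refl _).isNilpotent_mul_left h4)
  obtain ⟨z, hz, hzz, hz1, -, -⟩ := OOTensor.exists_central_involution D.space D.two p haI hbI
    hM2 hN2 hnp
  have hzL : z ∈ L := (Subgroup.closure_le _).2
    (Set.insert_subset ha (Set.singleton_subset_iff.2 hbL)) hz
  obtain ⟨P₀, P₁, P₂, P₃, hzf, h0⟩ := hform z hz
  have h4 := add_inv_eq hM2 hN2 D.space (H.le hzL) (skew_of_sq_zero D.space haI hM2)
    (skew_of_sq_zero D.space hbI hN2) hzf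
  rw [inv_eq_of_mul_eq_one_right hzz, ← hTdef] at h4
  set R : F[X] := C 2⁻¹ * (2 * P₀ + P₃ * X) with hR
  have hR0 : R.eval 0 = 1 := by simp [hR, h0, D.two]
  have hzR : opHom z = aeval T R := by
    rw [hR, map_mul, aeval_C, ← h4, ← Algebra.smul_def, ← two_smul F (opHom z), smul_smul,
      inv_mul_cancel₀ D.two, one_smul]
  refine ⟨z, hzL, aeval (φ ∘ₗ χ) R, aeval (χ ∘ₗ φ) R, ?_, ?_, fun u => ?_⟩
  rotate_left 2
  · rw [co_apply, ← opHom_apply, hzR, hTR, e.apply_symm_apply, hR0, map_one, one_mul]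
  all_goals
    have hco : ∀ u, co e z u =
        (aeval (φ ∘ₗ χ) R u.1, u.2.1, aeval (χ ∘ₗ φ) R u.2.2) := fun u => by
      rw [co_apply, ← opHom_apply, hzR, hTR, e.apply_symm_apply, hR0, map_one, one_mul]
  · intro y
    obtain ⟨u, hu⟩ := (co e z).surjective (y, 0, 0)
    exact ⟨u.1, by rw [hco] at hu; exact congrArg (fun u : W => u.1) hu⟩
  · intro k hk
    obtain ⟨y, hy0, hy⟩ := skew_ker (hr.odd_of_ne_two (by omega)) D.two (φ := χ) (fun s t => by
      simp only [hχ, hμ, LinearMap.comp_apply, LinearMap.mulLeft_apply]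
      rw [← mul_assoc, mul_comm s, hφ, mul_assoc]
      ring_nf)
    have hEy : aeval (φ ∘ₗ χ) R y = y := by
      obtain ⟨R', hR'⟩ : X ∣ R - C 1 := X_dvd_iff.2 (by rw [coeff_zero_eq_eval_zero]; simp [hR0])
      rw [sub_eq_iff_eq_add] at hR'
      rw [hR', mul_comm, map_add, map_mul, aeval_X, aeval_C, map_one, LinearMap.add_apply,
        Module.End.one_apply, Module.End.mul_apply, LinearMap.comp_apply, hy, map_zero, map_zero,
        zero_add]
    rw [hk, LinearMap.mulLeft_apply] at hEy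
    have hk1 : k = 1 := mul_right_cancel₀ hy0 (hEy.trans (one_mul y).symm)
    obtain ⟨φ', -, hφ'⟩ := D.uni_ext (H.le hzL) (fun y => by simp [hco, hk, hk1])
      (fun y => by simp [hco])
    refine hz1 (co_ext (e := e) fun u => ?_)
    have h6 := congrArg (fun u : W => u.1) ((hco (0, 0, u.2.2)).symm.trans (hφ' (0, 0, u.2.2)))
    simp [zMap] at h6
    rw [hφ', co_one]
    simp [zMap, ← h6]

/-- All isometries of unipotent shape are in the group. -/
theorem Over.mem_of_uni (H : Over Q B e ν L) (h3 : 3 ≤ Fintype.card F) (hr : (finrank F K).Prime)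
    (h5 : 3 ≤ finrank F K) {g : GL ι F} (hg : g ∈ L) (hP : Pres e g) (hgS : ¬ Semi e g)
    {X : GL ι F} (hX : X ∈ isometryGroup F Q) {ψ : K →ₗ[F] K} (hXu : Uni e X ψ) : X ∈ L := by
  have D := H.frame
  have hν := D.ne
  obtain ⟨φ₀, hφ₀, hφ₀0, hm⟩ := H.exists_zs h3 h5 hg hP hgS
  obtain ⟨j, hj, E, E', hEs, hEn, hju⟩ := H.exists_levi h3 hr h5 hφ₀ hφ₀0 hm
  have hall : ∀ ψ, Psi e L ψ := by
    have hS := mem_of_closed hr {X : K →ₗ[F] K | ∀ ψ, Psi e L ψ → Psi e L (X ∘ₗ ψ)}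
      (fun X hX Y hY ψ hψ => by rw [LinearMap.add_comp]; exact (hX ψ hψ).add (hY ψ hψ))
      (fun X hX Y hY ψ hψ => hX _ (hY ψ hψ)) (fun k ψ hψ => H.psi_smul hψ k) (E := E)
      (fun ψ hψ => hψ.conj hj (A := E) (β := 0) (C := LinearMap.id) (D' := E') hEs
        (fun y => ⟨y, rfl⟩) (fun x => by simp [hju]) (fun y => by simp [hju])
        (fun u => by simp [hju]) (fun y => rfl)) hEn
    intro ψ
    obtain ⟨U, hU, hUu⟩ := H.ua 1
    have := hS (ψ ∘ₗ LinearMap.mulLeft F (-ν)⁻¹) _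
      (show Psi e L (LinearMap.mulLeft F (-(ν * 1))) from ⟨U, hU, uni_of_ua hUu⟩)
    have e1 : (ψ ∘ₗ LinearMap.mulLeft F (-ν)⁻¹) ∘ₗ LinearMap.mulLeft F (-(ν * 1)) = ψ :=
      LinearMap.ext fun y => by simp [hν, ← mul_assoc]
    rwa [e1] at this
  have hzall : ∀ φ : K →ₗ[F] K, Skew φ → Mem e L (zMap φ) := by
    intro φ hφ
    obtain ⟨Y, hY, hYu⟩ := hall ((2⁻¹ : F) • φ)
    obtain ⟨φ', -, hm', he⟩ := H.comm_ua hY hYu 1
    refine hm'.congr fun u => ?_
    have : φ' u.2.2 = φ u.2.2 := by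
      rw [he, one_mul, mul_one]
      set z := u.2.2
      have hd : ν * (co e Y (0, 0, z)).2.1 = ((2⁻¹ : F) • φ) z := trace_ext (F := F) fun k => by
        have h1 := D.iso (H.le hY) (0, k, 0) (0, 0, z)
        rw [hYu.snd] at h1
        simp [hh, hYu.trd] at h1
        rw [← mul_assoc, mul_comm k, LinearMap.smul_apply, Algebra.mul_smul_comm, map_smul, hφ,
          smul_neg, smul_eq_mul]
        linear_combination h1
      rw [hd, LinearMap.smul_apply, ← add_smul, ← two_mul, mul_inv_cancel₀ D.two, one_smul]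
    simp [zMap, this]
  obtain ⟨Y, hY, hYu⟩ := hall ψ
  have hm' : Y⁻¹ * X ∈ isometryGroup F Q := mul_mem (inv_mem (H.le hY)) hX
  obtain ⟨φ, hφ, hφu⟩ := D.uni_ext hm'
    (fun x => by rw [co_mul, hXu.fst]; exact (co e Y).injective (by rw [co_inv, hYu.fst]))
    (fun y => by
      rw [co_mul, hXu.snd]
      exact (co e Y).injective (by rw [co_inv, hYu.snd]))
  have h1 := (hzall φ hφ).unique hφu
  simpa [← mul_assoc] using L.mul_mem hY h1

end Finite

end Cfsg.Lib.Linear.OrthExtThree
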